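import Groth.Agent.RHomMod.Kill
import Groth.Agent.DRingKP.KFlat
import Groth.Agent.DRingKP.TorAmp
import Groth.Agent.Shriek.HomTensor

/-!
`RHom` out of a torsion complex is derived complete.
-/

set_option autoImplicit false
set_option maxHeartbeats 1000000
set_option linter.style.haveILetI false
set_option backward.isDefEq.respectTransparency false
set_option backward.isDefEq.respectTransparency.types false
universe u

namespace Groth.Agent.RHomMod

open CategoryTheory Limits MonoidalCategory Pretriangulated CochainComplex RGammaI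
open scoped TensorProduct

attribute [local instance] HasDerivedCategory.standard

noncomputable section

variable {A : Type u} [CommRing A]

theorem exists_kProj_kFlat_resolution (G : DRing.Cx A) :
    ∃ (P : DRing.Cx A) (c : P ⟶ G), P.IsKProjective ∧ QuasiIso c ∧ DRingKP.IsKFlat P := by
  obtain ⟨Kc, π, -, -, hb, hs, hr, c, -, hc⟩ := KFlat.exists_trunc_system G (DRingKP.exists_cover A)
  haveI : ∀ n, (Kc.obj n).IsKProjective := fun n => by
    obtain ⟨b, hb⟩ := hb n
    haveI := fun i => DRingKP.projective_of_isSum (hs n i)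
    exact CochainComplex.isKProjective_of_projective _ b
  refine ⟨colimit Kc, c, DRingKP.isKProjective_colimit Kc fun n i => ⟨(hr n i).choose, (hr n i).choose_spec.1⟩, hc,
    (DRingKP.rflat_iff _).1 (KFlat.rflat_of_isColimit (DRingKP.preservesNat_tB A) (colimit.isColimit Kc) fun n => ?_)⟩
  obtain ⟨b, hb⟩ := hb n
  exact (DRingKP.rflat_iff _).2 (DRingKP.isKFlat_of_bounded ((CochainComplex.isStrictlyLE_iff _ b).1 hb)
    (DRingKP.flat_of_projective fun i => DRingKP.projective_of_isSum (hs n i)))

theorem isZero_homology_of_subsingleton (G : DRing.Cx A) (i : ℤ) (h : ∀ z : G.homology i, z = 0) :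
    IsZero (G.homology i) :=
  haveI : Subsingleton (G.homology i) := subsingleton_of_forall_eq 0 h
  ModuleCat.isZero_of_subsingleton _

/-- tensoring with `A_f` kills `f`-torsion cohomology -/
theorem acyclic_single_tens {f : A} {G : DRing.Cx A}
    (hG : ∀ (n : ℤ) (z : G.homology n), ∃ k : ℕ, f ^ k • z = 0) (m : ℤ) :
    ((HomologicalComplex.single (ModuleCat.{u} A) (ComplexShape.up ℤ) m).obj
      (ModuleCat.of A (Localization.Away f)) ⊗ G).Acyclic := by
  let S := Submonoid.powers f
  let F : ModuleCat.{u} A := ModuleCat.of A (Localization.Away f)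
  haveI : Module.Flat A (Localization.Away f) := IsLocalization.flat (Localization.Away f) S
  let T : ModuleCat.{u} A ⥤ ModuleCat.{u} A := (DRingKP.tB A).flip.obj F
  haveI : T.PreservesHomology := Functor.preservesHomology_of_map_exact T fun S' hS =>
    (DRingKP.flatObj_iff A F).2 inferInstance S' hS
  refine KFlat.acyclic_of_iso (KFlat.swapIso (DRingKP.tBraid A) G _) fun n => ?_
  obtain ⟨p, rfl⟩ : ∃ p, p + 1 + m = n := ⟨n - m - 1, by lia⟩
  rw [HomologicalComplex.exactAt_iff' _ (p + m) (p + 1 + m) (p + 1 + m + 1) (by simp; lia) (by simp)]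
  have h : ((G.sc' p (p + 1) (p + 1 + 1)).map T).Exact := by
    rw [ShortComplex.exact_iff_isZero_homology]
    refine IsZero.of_iso ?_ ((G.sc' p (p + 1) (p + 1 + 1)).mapHomologyIso T)
    let H := (G.sc' p (p + 1) (p + 1 + 1)).homology
    change IsZero (ModuleCat.of A (↑H ⊗[A] Localization.Away f))
    haveI : Subsingleton (↑H ⊗[A] Localization.Away f) := subsingleton_of_forall_eq 0 fun z => by
      induction z with
      | zero => rfl
      | add a b ha hb => rw [ha, hb, add_zero]
      | tmul x s =>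
        let e := ShortComplex.homologyMapIso ((G.isoSc' p (p + 1) (p + 1 + 1) (by simp) (by simp)))
        obtain ⟨k, hk⟩ := hG (p + 1) (e.inv x)
        have hx : f ^ k • x = 0 := by
          have h' := congrArg (fun z => e.hom.hom z) hk
          simp only [map_smul, map_zero] at h'
          rw [← h']
          exact congrArg (f ^ k • ·) (e.toLinearEquiv.apply_symm_apply x).symm
        obtain ⟨t, ht⟩ : ∃ t : Localization.Away f, f ^ k • t = s := by
          obtain ⟨u, hu⟩ := IsLocalization.map_units (Localization.Away f) (⟨f ^ k, k, rfl⟩ : S)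
          exact ⟨↑u⁻¹ * s, by rw [Algebra.smul_def, ← mul_assoc, ← hu, u.mul_inv, one_mul]⟩
        rw [← ht, ← TensorProduct.smul_tmul, hx, TensorProduct.zero_tmul]
    exact ModuleCat.isZero_of_subsingleton _
  refine (ShortComplex.exact_iff_of_iso ?_).1 h
  refine ShortComplex.isoMk (KFlat.singleXIso (DRingKP.tB A) G F m p (p + m) rfl)
    (KFlat.singleXIso (DRingKP.tB A) G F m (p + 1) (p + 1 + m) rfl)
    (KFlat.singleXIso (DRingKP.tB A) G F m (p + 1 + 1) (p + 1 + m + 1) (by lia)) ?_ ?_
  · exact KFlat.singleXIso_comm' (DRingKP.tB A) G F m p (p + m) (p + 1 + m) rfl (by lia)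
  · exact KFlat.singleXIso_comm (DRingKP.tB A) G F m (p + 1) (p + 1 + m) rfl

/-- `Hom•` out of a K-flat complex into a K-injective one is K-injective -/
theorem isKInjective_homCx {G J : DRing.Cx A} (hG : DRingKP.IsKFlat G) [J.IsKInjective] :
    (DRing.homCx G J).IsKInjective := by
  refine ⟨fun {K} g hK => ?_⟩
  obtain ⟨g₀, rfl⟩ := Shriek.tpHom_surjective g
  have hac : (K ⊗ G).Acyclic := KFlat.acyclic_iff_isZero.2 (hG K (KFlat.acyclic_iff_isZero.1 hK))
  have h0 : Shriek.tpHom (Z := K) (W := G) (0 : K ⊗ G ⟶ J) = 0 := HomComplex.Cochain.ofHom_injective (by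
    rw [Shriek.ofHom_tpHom, HomComplex.Cochain.ofHom_zero, Shriek.tp_zero, HomComplex.Cochain.ofHom_zero])
  rw [← h0]
  exact (Shriek.nonempty_homotopy_tpHom_iff g₀ 0).2 ⟨IsKInjective.homotopyZero g₀ hac⟩

/-- `RHom` out of a torsion object is derived complete -/
theorem isDerivedComplete_homCx (I : Ideal A) {G J : DRing.Cx A} (hG : DRingKP.IsKFlat G) [J.IsKInjective]
    (htor : ∀ n : ℤ, LocCoh.IsPowerTorsion I (Dual.HD A (DerivedCategory.Q.obj G) n)) :
    DRing.IsDerivedComplete I (DerivedCategory.Q.obj (DRing.homCx G J)) := by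
  intro f hf n
  have hG' : ∀ (q : ℤ) (z : G.homology q), ∃ k : ℕ, f ^ k • z = 0 := fun q z => by
    let e := (DerivedCategory.homologyFunctorFactors (ModuleCat.{u} A) q).app G
    obtain ⟨k, hk⟩ := htor q (e.inv z)
    refine ⟨k, ?_⟩
    have h := congrArg (fun v => e.hom.hom v) (hk _ (Ideal.pow_mem_pow hf k))
    simp only [map_smul, map_zero] at h
    rw [← h]
    exact congrArg (f ^ k • ·) (e.toLinearEquiv.apply_symm_apply z).symm
  haveI := isKInjective_homCx (J := J) hG
  let Z : DRing.Cx A := (HomologicalComplex.single (ModuleCat.{u} A) (ComplexShape.up ℤ) n).obj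
    (ModuleCat.of A (Localization.Away f))
  haveI hZ : Subsingleton (DerivedCategory.Q.obj Z ⟶ DerivedCategory.Q.obj (DRing.homCx G J)) :=
    subsingleton_of_forall_eq 0 fun v => by
      obtain ⟨h, rfl⟩ := KInj.Q_map_surjective v
      obtain ⟨h₀, rfl⟩ := Shriek.tpHom_surjective h
      have h0 : Shriek.tpHom (Z := Z) (W := G) (0 : Z ⊗ G ⟶ J) = 0 := HomComplex.Cochain.ofHom_injective (by
        rw [Shriek.ofHom_tpHom, HomComplex.Cochain.ofHom_zero, Shriek.tp_zero, HomComplex.Cochain.ofHom_zero])
      rw [Shriek.Q_eq_of_homotopy ((Shriek.nonempty_homotopy_tpHom_iff h₀ 0).2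
        ⟨IsKInjective.homotopyZero h₀ (acyclic_single_tens hG' n)⟩), h0, Functor.map_zero]
  let e : DerivedCategory.Q.obj Z ≅ (Dual.inD A (Localization.Away f))⟦-n⟧ :=
    ((DerivedCategory.singleFunctorIsoCompQ (ModuleCat.{u} A) n).app _).symm ≪≫
      ((((DerivedCategory.singleFunctors (ModuleCat.{u} A)).shiftIso (-n) n 0 (by lia)).app _).symm)
  haveI : Subsingleton ((Dual.inD A (Localization.Away f))⟦-n⟧ ⟶ DerivedCategory.Q.obj (DRing.homCx G J)) :=
    @Equiv.subsingleton _ _ (Iso.homFromEquiv e).symm hZ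
  exact @Equiv.subsingleton _ _ ((shiftEquiv' (Dual.D A) (-n) n (neg_add_cancel n)).toAdjunction.homEquiv _ _).symm
    this

end

end Groth.Agent.RHomMod
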