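import Groth.Agent.RHomMod.Basic
import Groth.Agent.KInj.Derived
import Groth.Agent.KInj.Existence
import Groth.Agent.DRingKP.RHomProj
import Groth.Agent.RGammaI.Derived

/-!
`RHom` out of a complex of modules, through K-projective resolutions.
-/

set_option autoImplicit false
set_option maxHeartbeats 1000000
set_option linter.style.haveILetI false
set_option backward.isDefEq.respectTransparency false
set_option backward.isDefEq.respectTransparency.types false
universe u

namespace Groth.Agent.RHomMod

open CategoryTheory Limits CochainComplex HomComplex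

attribute [local instance] HasDerivedCategory.standard

noncomputable section

variable {A : Type u} [CommRing A]

/-- quasi-isomorphisms of complexes of modules -/
abbrev qisW (A : Type u) [CommRing A] : MorphismProperty (DRing.Cx A) :=
  HomologicalComplex.quasiIso (ModuleCat.{u} A) (ComplexShape.up ℤ)

theorem exists_rep (X : Dual.D A) :
    ∃ J : DRing.Cx A, J.IsKInjective ∧ Nonempty (X ≅ DerivedCategory.Q.obj J) := by
  obtain ⟨J, hJ, -, ⟨e⟩⟩ := RGammaI.exists_rep X
  exact ⟨J, hJ, ⟨e.symm ≪≫ (DerivedCategory.quotientCompQhIso (ModuleCat.{u} A)).app J⟩⟩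

theorem isDeforming (K : DRing.Cx A) :
    KInj.IsDeforming (DerivedCategory.Q : DRing.Cx A ⥤ Dual.D A) (DRing.homCxQ K)
      (fun J => J.IsKInjective) where
  surj := fun {X I} hI => by
    haveI : I.IsKInjective := hI
    exact KInj.Q_map_surjective
  wd f g hI h := by
    haveI : CochainComplex.IsKInjective _ := hI
    obtain ⟨H⟩ := KInj.nonempty_homotopy_of_Q_map_eq h
    exact Q_homCxMap_congr K (Homotopy.equivSubZero.symm H)
  res := exists_rep

theorem hasRHomCx (K : DRing.Cx A) : DRing.HasRHomCx K :=
  (isDeforming K).hasRightDerivedFunctor (qisW A)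

theorem inverts (P : DRing.Cx A) [P.IsKProjective] : (qisW A).IsInvertedBy (DRing.homCxQ P) := fun X Y g hg => by
  haveI : QuasiIso g := hg
  haveI : QuasiIso ((DRing.homCxFunctor P).map g) := DRingKP.quasiIso_homCxMap g
  exact (inferInstance : IsIso (DerivedCategory.Q.map ((DRing.homCxFunctor P).map g)))

theorem isZero_Q_cone {L L' : DRing.Cx A} (f : L ⟶ L') [QuasiIso f] :
    IsZero (DerivedCategory.Q.obj (mappingCone f)) :=
  Pretriangulated.Triangle.isZero₃_of_isIso₁ _ (DerivedCategory.mappingCone_triangle_distinguished f)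
    (show IsIso (DerivedCategory.Q.map f) from inferInstance)

theorem quasiIso_preMap {P K : DRing.Cx A} (c : P ⟶ K) [QuasiIso c] (J : DRing.Cx A) [J.IsKInjective] :
    QuasiIso (preMap c J) :=
  quasiIso_preMap_of_acyclic c J (acyclic_homCx_of_kInj _ _ fun _ =>
    ⟨fun a b => (isZero_Q_cone c).eq_of_src a b⟩)

/-- `RHom(K, -)` on complexes is `Hom•` out of a K-projective resolution. -/
theorem nonempty_factors (K : DRing.Cx A) [DRing.HasRHomCx K] {P : DRing.Cx A} [P.IsKProjective]
    (c : P ⟶ K) [QuasiIso c] : Nonempty (DerivedCategory.Q ⋙ DRing.RHomCx K ≅ DRing.homCxQ P) := by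
  let G := Localization.lift (DRing.homCxQ P) (inverts P) DerivedCategory.Q
  let φ := Localization.fac (DRing.homCxQ P) (inverts P) DerivedCategory.Q
  let α : DRing.homCxQ K ⟶ DerivedCategory.Q ⋙ G :=
    { app := fun L => DerivedCategory.Q.map (preMap c L) ≫ φ.inv.app L
      naturality := fun L L' f => by
        have h := φ.inv.naturality f
        dsimp at h ⊢
        rw [← Category.assoc, ← Functor.map_comp]
        erw [← preMap_homCxMap, Functor.map_comp, Category.assoc, h, Category.assoc] }
  haveI : G.IsRightDerivedFunctor α (qisW A) := (isDeforming K).isRightDerivedFunctor (qisW A) G α fun J hJ => by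
    haveI : J.IsKInjective := hJ
    haveI := quasiIso_preMap c J
    exact IsIso.comp_isIso' inferInstance inferInstance
  exact ⟨Functor.isoWhiskerLeft DerivedCategory.Q (Functor.rightDerivedUnique (DRing.RHomCx K) G
    ((DRing.homCxQ K).totalRightDerivedUnit DerivedCategory.Q (qisW A)) α (qisW A)) ≪≫ φ⟩

/-- the value of `RHom(K, -)` -/
theorem nonempty_RHomCx_iso (K : DRing.Cx A) [DRing.HasRHomCx K] {P : DRing.Cx A} [P.IsKProjective]
    (c : P ⟶ K) [QuasiIso c] {X : Dual.D A} {L : DRing.Cx A} (e : DerivedCategory.Q.obj L ≅ X) :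
    Nonempty ((DRing.RHomCx K).obj X ≅ DerivedCategory.Q.obj (DRing.homCx P L)) := by
  obtain ⟨ψ⟩ := nonempty_factors K c
  exact ⟨(DRing.RHomCx K).mapIso e.symm ≪≫ ψ.app L⟩

end

end Groth.Agent.RHomMod
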