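import Groth.Agent.RHomMod.Complete

/-!
`RHom` commutes with derived completion.
-/

set_option autoImplicit false
set_option maxHeartbeats 1000000
set_option linter.style.haveILetI false
set_option backward.isDefEq.respectTransparency false
set_option backward.isDefEq.respectTransparency.types false
universe u

namespace Groth.Agent.RHomMod

open CategoryTheory Limits MonoidalCategory Pretriangulated CochainComplex RGammaI
open scoped TensorProduct

attribute [local instance] HasDerivedCategory.standard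

noncomputable section

variable {A : Type u} [CommRing A]

theorem kz_of_noHom (I : Ideal A) (fs : List A) (hI : Ideal.span {x | x ∈ fs} = I) {X : Dual.D A}
    (h : NoHom I X) : KZ fs X := by
  classical
  suffices key : ∀ t : List A, (∀ f ∈ t, f ∈ fs) → ∀ Y : Dual.D A, NoHom I Y →
      (∀ f ∈ fs, f ∉ t → UKill f Y) → KZ t Y from key fs (fun _ h => h) X h (fun f hf hf' => (hf' hf).elim)
  intro t
  induction t with
  | nil =>
    intro _ Y hY hk
    have he : (fs.toFinset : Set A) = {x | x ∈ fs} := by ext; simp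
    refine isZero_of_torsion_noHom I ⟨fs.toFinset, by rw [he]; exact hI⟩ (fun n => ?_) hY
    have h2 := isPowerTorsion_of_tkill (X := Y) fs.toFinset fun f hf n x => by
      obtain ⟨m, hm⟩ := hk f (List.mem_toFinset.1 hf) List.not_mem_nil n
      exact ⟨m, hm x⟩
    rw [he, hI] at h2
    exact h2 n
  | cons a t ih =>
    intro ht Y hY hk C hC
    refine ih (fun f hf => ht f (List.mem_cons_of_mem a hf)) C (noHom_mulCone hC hY) fun f hf hft => ?_
    by_cases hfa : f = a
    · exact hfa ▸ mulCone_kill hC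
    · exact mulCone_ukill hC (hk f hf fun h => (List.mem_cons.1 h).elim hfa hft)

theorem noHom_cone_completion (I : Ideal A) [DRing.HasDerivedCompletion I] (K : Dual.D A) {D : Dual.D A}
    {g : ((DRing.derivedCompletion I).obj K).obj ⟶ D} {δ : D ⟶ K⟦(1 : ℤ)⟧}
    (hT : Triangle.mk (DRing.toDerivedCompletion I K) g δ ∈ distTriang (Dual.D A)) : NoHom I D := fun E hE =>
  subsingleton_of_forall_eq 0 fun v => by
    have h0 : g ≫ v = 0 := (DRingKP.completion_univ I K E hE).1 (by
      change DRing.toDerivedCompletion I K ≫ g ≫ v = DRing.toDerivedCompletion I K ≫ 0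
      rw [comp_zero, ← Category.assoc,
        show DRing.toDerivedCompletion I K ≫ g = 0 from comp_distTriang_mor_zero₁₂ _ hT, zero_comp])
    obtain ⟨w, hw⟩ := Triangle.yoneda_exact₃ _ hT v h0
    obtain ⟨w', hw'⟩ := (DRingKP.bijective_precomp_shift (DRing.toDerivedCompletion I K)
      (DRingKP.completion_univ I K _ (complete_shift hE (-1)))).2 w
    rw [hw, ← hw', ← Category.assoc]
    exact (congrArg (· ≫ w') (comp_distTriang_mor_zero₃₁ _ hT)).trans zero_comp

/-- `RHom` into a derived complete object is derived complete -/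
theorem isDerivedComplete_homCx_right (I : Ideal A) {P J : DRing.Cx A} (hP : DRingKP.IsKFlat P) [J.IsKInjective]
    (hJ : DRing.IsDerivedComplete I (DerivedCategory.Q.obj J)) :
    DRing.IsDerivedComplete I (DerivedCategory.Q.obj (DRing.homCx P J)) := by
  intro f hf n
  haveI := isKInjective_homCx (J := J) hP
  let Z : DRing.Cx A := (HomologicalComplex.single (ModuleCat.{u} A) (ComplexShape.up ℤ) n).obj
    (ModuleCat.of A (Localization.Away f))
  obtain ⟨σ, hσ⟩ : ∃ σ : Z ⟶ Z, f • σ = 𝟙 Z := by
    obtain ⟨u, hu⟩ := IsLocalization.map_units (Localization.Away f) (⟨f, 1, pow_one f⟩ : Submonoid.powers f)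
    refine ⟨(HomologicalComplex.single (ModuleCat.{u} A) (ComplexShape.up ℤ) n).map
      (ModuleCat.ofHom (LinearMap.mulLeft A (↑u⁻¹ : Localization.Away f))), ?_⟩
    haveI : (HomologicalComplex.single (ModuleCat.{u} A) (ComplexShape.up ℤ) n).Linear A :=
      ⟨fun φ a => HomologicalComplex.from_single_hom_ext (by simp [HomologicalComplex.single_map_f_self])⟩
    rw [← Functor.map_smul, ← CategoryTheory.Functor.map_id]
    congr 1
    refine ModuleCat.hom_ext (LinearMap.ext fun s => ?_)
    show f • ((↑u⁻¹ : Localization.Away f) * s) = s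
    rw [Algebra.smul_def, ← mul_assoc, ← hu, u.mul_inv, one_mul]
  haveI hZT : Subsingleton (DerivedCategory.Q.obj (Z ⊗ P) ⟶ DerivedCategory.Q.obj J) :=
    subsingleton_hom_of_div (f := f) (fun v => by
      obtain ⟨h, rfl⟩ := KInj.Q_map_surjective v
      obtain ⟨h', hh'⟩ := Shriek.tpHom_surjective (σ ≫ Shriek.tpHom h)
      refine ⟨DerivedCategory.Q.map h', ?_⟩
      rw [← Functor.map_smul]
      refine Shriek.Q_eq_of_homotopy ((Shriek.nonempty_homotopy_tpHom_iff _ _).1 ⟨Homotopy.ofEq ?_⟩)
      have e : f • h' = h' ≫ (f • 𝟙 J) := by rw [Linear.comp_smul, Category.comp_id]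
      rw [e, Shriek.tpHom_comp_right, hh', homCxMap_smul_id, Linear.comp_smul, Category.comp_id,
        ← Linear.smul_comp, hσ, Category.id_comp])
      (fun n => (DRingKP.isDerivedComplete_iff I _).1 hJ f hf n)
  haveI hZ : Subsingleton (DerivedCategory.Q.obj Z ⟶ DerivedCategory.Q.obj (DRing.homCx P J)) :=
    subsingleton_of_forall_eq 0 fun v => by
      obtain ⟨h, rfl⟩ := KInj.Q_map_surjective v
      obtain ⟨h₀, rfl⟩ := Shriek.tpHom_surjective h
      have h0 : Shriek.tpHom (Z := Z) (W := P) (0 : Z ⊗ P ⟶ J) = 0 := HomComplex.Cochain.ofHom_injective (by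
        rw [Shriek.ofHom_tpHom, HomComplex.Cochain.ofHom_zero, Shriek.tp_zero, HomComplex.Cochain.ofHom_zero])
      obtain ⟨H⟩ := KInj.nonempty_homotopy_of_Q_map_eq
        (@Subsingleton.elim _ hZT (DerivedCategory.Q.map h₀) (DerivedCategory.Q.map 0))
      rw [Shriek.Q_eq_of_homotopy ((Shriek.nonempty_homotopy_tpHom_iff h₀ 0).2
        ⟨Homotopy.equivSubZero.symm H⟩), h0, Functor.map_zero]
  let e : DerivedCategory.Q.obj Z ≅ (Dual.inD A (Localization.Away f))⟦-n⟧ :=
    ((DerivedCategory.singleFunctorIsoCompQ (ModuleCat.{u} A) n).app _).symm ≪≫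
      ((((DerivedCategory.singleFunctors (ModuleCat.{u} A)).shiftIso (-n) n 0 (by lia)).app _).symm)
  haveI : Subsingleton ((Dual.inD A (Localization.Away f))⟦-n⟧ ⟶ DerivedCategory.Q.obj (DRing.homCx P J)) :=
    @Equiv.subsingleton _ _ (Iso.homFromEquiv e).symm hZ
  exact @Equiv.subsingleton _ _ ((shiftEquiv' (Dual.D A) (-n) n (neg_add_cancel n)).toAdjunction.homEquiv _ _).symm
    this

theorem complete_of_iso {I : Ideal A} {X Y : Dual.D A} (e : X ≅ Y) (h : DRing.IsDerivedComplete I X) :
    DRing.IsDerivedComplete I Y :=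
  (DRingKP.isDerivedComplete_iff I Y).2 fun f hf => DRingKP.cAlong_of_iso e ((DRingKP.isDerivedComplete_iff I X).1 h f hf)

theorem derivedCompletion_RHom (I : Ideal A) (hI : I.FG) [DRing.HasDerivedCompletion I]
    (K : DRing.Cx A) [DRing.HasRHomCx K] (L : Dual.D A) :
    DRing.IsDerivedComplete I ((DRing.RHomCx K).obj ((DRing.derivedCompletion I).obj L).obj) ∧
      ∀ E : Dual.D A, DRing.IsDerivedComplete I E →
        Function.Bijective (fun φ : (DRing.RHomCx K).obj ((DRing.derivedCompletion I).obj L).obj ⟶ E =>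
          (DRing.RHomCx K).map (DRing.toDerivedCompletion I L) ≫ φ) := by
  obtain ⟨P, c, hP, hc, hPf⟩ := exists_kProj_kFlat_resolution K
  haveI := hP; haveI := hc
  obtain ⟨ψ⟩ := nonempty_factors K c
  let L' := ((DRing.derivedCompletion I).obj L).obj
  obtain ⟨J, hJ, ⟨eJ⟩⟩ := exists_rep L
  obtain ⟨J', hJ', ⟨eJ'⟩⟩ := exists_rep L'
  haveI := hJ; haveI := hJ'
  obtain ⟨g, hg⟩ := KInj.Q_map_surjective (K := J) (I := J') (eJ.inv ≫ DRing.toDerivedCompletion I L ≫ eJ'.hom)
  have hL' : DRing.IsDerivedComplete I (DerivedCategory.Q.obj J') :=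
    complete_of_iso eJ' ((DRing.derivedCompletion I).obj L).property
  let a : (DRing.RHomCx K).obj L ≅ DerivedCategory.Q.obj (DRing.homCx P J) := (DRing.RHomCx K).mapIso eJ ≪≫ ψ.app J
  let a' : (DRing.RHomCx K).obj L' ≅ DerivedCategory.Q.obj (DRing.homCx P J') := (DRing.RHomCx K).mapIso eJ' ≪≫ ψ.app J'
  refine ⟨complete_of_iso a'.symm (isDerivedComplete_homCx_right I hPf hL'), fun E hE => ?_⟩
  have sq : (DRing.RHomCx K).map (DRing.toDerivedCompletion I L) ≫ a'.hom =
      a.hom ≫ DerivedCategory.Q.map (DRing.homCxMap P g) := by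
    have h := ψ.hom.naturality g
    dsimp at h
    simp only [a, a', Iso.trans_hom, Functor.mapIso_hom, Iso.app_hom, Category.assoc]
    erw [← h]
    rw [hg, ← Category.assoc, ← Category.assoc, ← Functor.map_comp, ← Functor.map_comp, Iso.hom_inv_id_assoc]
  -- the cone of `g` has no maps into complete objects
  obtain ⟨s, hs⟩ := hI
  have hI' : Ideal.span {x | x ∈ s.toList} = I := by simp only [Finset.mem_toList]; exact hs
  have hcone : NoHom I (DerivedCategory.Q.obj (mappingCone g)) := by
    obtain ⟨D, q, δ, hT⟩ := distinguished_cocone_triangle (DRing.toDerivedCompletion I L)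
    refine (noHom_cone_completion I L hT).of_iso (Triangle.π₃.mapIso (isoTriangleOfIso₁₂ _ _ hT
      (DerivedCategory.mappingCone_triangle_distinguished g) eJ eJ' ?_))
    change DRing.toDerivedCompletion I L ≫ eJ'.hom = eJ.hom ≫ DerivedCategory.Q.map g
    rw [hg, Iso.hom_inv_id_assoc]
  have hN : NoHom I (DerivedCategory.Q.obj (mappingCone (DRing.homCxMap P g))) := by
    haveI := isIso_coneMap P g
    exact (noHom_homCx_of_kz_right I P s.toList (fun f hf => hI' ▸ Ideal.subset_span hf) _
      (kz_of_noHom I _ hI' hcone)).of_iso (DerivedCategory.Q.mapIso (asIso (coneMap P g)).symm)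
  have hb := bijective_of_noHom I (DerivedCategory.mappingCone_triangle_distinguished (DRing.homCxMap P g)) hN hE
  refine ⟨fun x y hxy => (cancel_epi a'.inv).1 (hb.1 ((cancel_epi a.hom).1 ?_)), fun v => ?_⟩
  · change a.hom ≫ DerivedCategory.Q.map (DRing.homCxMap P g) ≫ a'.inv ≫ x =
      a.hom ≫ DerivedCategory.Q.map (DRing.homCxMap P g) ≫ a'.inv ≫ y
    rw [← reassoc_of% sq, ← reassoc_of% sq, Iso.hom_inv_id_assoc, Iso.hom_inv_id_assoc]
    exact hxy
  · obtain ⟨w, hw⟩ := hb.2 (a.inv ≫ v)
    refine ⟨a'.hom ≫ w, ?_⟩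
    change (DRing.RHomCx K).map (DRing.toDerivedCompletion I L) ≫ a'.hom ≫ w = v
    change DerivedCategory.Q.map (DRing.homCxMap P g) ≫ w = a.inv ≫ v at hw
    rw [reassoc_of% sq, hw, Iso.hom_inv_id_assoc]

end

end Groth.Agent.RHomMod
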