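import Groth.Agent.RHomMod.Complete
import Groth.Agent.DualCx.HDI
import Groth.Agent.RGammaI.HDI

/-!
Local duality and derived completion.
-/

set_option autoImplicit false
set_option maxHeartbeats 1000000
set_option linter.style.haveILetI false
set_option backward.isDefEq.respectTransparency false
set_option backward.isDefEq.respectTransparency.types false
universe u

namespace Groth.Agent.RHomMod

open CategoryTheory Limits Pretriangulated CochainComplex RGammaI IsLocalRing

attribute [local instance] HasDerivedCategory.standard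

noncomputable section

variable {A : Type u} [CommRing A]

theorem isPowerTorsion_of_iso {I : Ideal A} {X Y : Dual.D A} (e : X ≅ Y)
    (h : ∀ n, LocCoh.IsPowerTorsion I (Dual.HD A X n)) (n : ℤ) : LocCoh.IsPowerTorsion I (Dual.HD A Y n) := fun y => by
  let e' := ((DerivedCategory.homologyFunctor (ModuleCat.{u} A) n).mapIso e).toLinearEquiv
  obtain ⟨k, hk⟩ := h n (e'.symm y)
  exact ⟨k, fun a ha => e'.symm.injective (by rw [map_smul, hk a ha, map_zero])⟩

theorem isPowerTorsion_shift {I : Ideal A} {X : Dual.D A} (h : ∀ n, LocCoh.IsPowerTorsion I (Dual.HD A X n))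
    (k n : ℤ) : LocCoh.IsPowerTorsion I (Dual.HD A (X⟦k⟧) n) := fun y => by
  let e' := (((DerivedCategory.homologyFunctor (ModuleCat.{u} A) 0).shiftIso k n (k + n) rfl).app X).toLinearEquiv
  obtain ⟨j, hj⟩ := h (k + n) (e' y)
  exact ⟨j, fun a ha => e'.injective (by rw [map_smul, hj a ha, map_zero])⟩

variable [IsNoetherianRing A] (I : Ideal A) [DRing.HasRgammaI I]

/-- torsion objects have no maps into objects killed by `RΓ_I` -/
theorem subsingleton_hom_of_torsion {X D : Dual.D A} (hX : ∀ n, LocCoh.IsPowerTorsion I (Dual.HD A X n))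
    (hD : IsZero ((DRing.RgammaI I).obj D)) (n : ℤ) : Subsingleton (X ⟶ D⟦n⟧) := by
  haveI := isIso_ε I (isPowerTorsion_shift hX (-n))
  haveI : Subsingleton (X⟦-n⟧ ⟶ D) := subsingleton_of_forall_eq 0 fun a => by
    refine (cancel_epi ((DRing.RgammaIε I).app (X⟦-n⟧))).1 ?_
    have h := (DRing.RgammaIε I).naturality a
    rw [hD.eq_of_tgt ((DRing.RgammaI I).map a) 0, zero_comp] at h
    rw [comp_zero]
    exact h.symm
  exact @Equiv.subsingleton _ _ ((shiftEquiv' (Dual.D A) (-n) n (neg_add_cancel n)).toAdjunction.homEquiv X D).symm this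

theorem nonempty_completion_RHom [DRing.HasDerivedCompletion I] (K G : DRing.Cx A) [DRing.HasRHomCx K]
    [DRing.HasRHomCx G] (eG : DerivedCategory.Q.obj G ≅ (DRing.RgammaI I).obj (DerivedCategory.Q.obj K))
    (X : Dual.D A) :
    Nonempty (((DRing.derivedCompletion I).obj ((DRing.RHomCx K).obj X)).obj ≅
      (DRing.RHomCx G).obj ((DRing.RgammaI I).obj X)) := by
  obtain ⟨P, c, hP, hc, hPf⟩ := exists_kProj_kFlat_resolution K
  obtain ⟨G', c', hG', hc', hG'f⟩ := exists_kProj_kFlat_resolution G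
  haveI := hP; haveI := hc; haveI := hG'; haveI := hc'
  obtain ⟨J, hJ, ⟨eJ⟩⟩ := exists_rep X
  obtain ⟨JE, hJE, ⟨eE⟩⟩ := exists_rep ((DRing.RgammaI I).obj X)
  haveI := hJ; haveI := hJE
  have htor : ∀ n, LocCoh.IsPowerTorsion I (Dual.HD A (DerivedCategory.Q.obj G') n) :=
    isPowerTorsion_of_iso (asIso (DerivedCategory.Q.map c') ≪≫ eG).symm (isPowerTorsion_HD I _)
  obtain ⟨g, hg⟩ := PerfLocal.exists_lift (R := A) (E := G') (F := P)
    (DerivedCategory.Q.map c' ≫ eG.hom ≫ (DRing.RgammaIε I).app _ ≫ inv (DerivedCategory.Q.map c))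
  have hiso : IsIso ((DRing.RgammaI I).map (DerivedCategory.Q.map g)) := by
    haveI := isIso_map_ε I (DerivedCategory.Q.obj K)
    rw [hg, Functor.map_comp, Functor.map_comp, Functor.map_comp]
    infer_instance
  obtain ⟨v, -⟩ := DRingKP.exists_iso_completion I (DerivedCategory.Q.map (preMap g J))
    (isDerivedComplete_homCx I hG'f htor) fun E hE => bijective_precomp_preMap I g J hiso hE
  obtain ⟨f, hf⟩ := KInj.Q_map_surjective (K := JE) (I := J) (eE.inv ≫ (DRing.RgammaIε I).app X ≫ eJ.hom)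
  haveI : QuasiIso (DRing.homCxMap G' f) := by
    refine quasiIso_homCxMap_of_acyclic G' f (acyclic_homCx_of_kProj _ _ fun n => ?_)
    refine subsingleton_hom_of_torsion I htor ((isZero_RΓ_cone_iff I
      (DerivedCategory.mappingCone_triangle_distinguished f)).2 ?_) n
    show IsIso ((DRing.RgammaI I).map (DerivedCategory.Q.map f))
    haveI := isIso_map_ε I X
    rw [hf, Functor.map_comp, Functor.map_comp]
    infer_instance
  obtain ⟨a⟩ := nonempty_RHomCx_iso K c eJ.symm
  obtain ⟨b⟩ := nonempty_RHomCx_iso G c' eE.symm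
  exact ⟨(ObjectProperty.ι _).mapIso ((DRing.derivedCompletion I).mapIso a) ≪≫ v.symm ≪≫
    (asIso (DerivedCategory.Q.map (DRing.homCxMap G' f))).symm ≪≫ b.symm⟩

theorem nonempty_RΓ_dualizing {A : Type u} [CommRing A] [IsLocalRing A] [IsNoetherianRing A] {ω : Dual.D A}
    (hω : Dual.IsDualizing A ω) (hn : Dual.IsNormalized A ω) {E : Type u} [AddCommGroup E] [Module A E]
    {f : (A ⧸ maximalIdeal A) →ₗ[A] E} (hf : InjHull.IsInjectiveHull f) [DRing.HasRgammaI (maximalIdeal A)] :
    Nonempty ((DRing.RgammaI (maximalIdeal A)).obj ω ≅ Dual.inD A E) := by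
  let X := (DRing.RgammaI (maximalIdeal A)).obj ω
  have hz : ∀ i : ℤ, i ≠ 0 → IsZero ((DerivedCategory.homologyFunctor (ModuleCat.{u} A) i).obj X) := fun i hi => by
    obtain ⟨e⟩ := RGammaI.nonempty_HD_equiv (maximalIdeal A) ω i
    haveI := DualCx.subsingleton_hdi hω hn hi
    haveI := e.toEquiv.subsingleton
    exact ModuleCat.isZero_of_subsingleton _
  haveI : DerivedCategory.IsGE X 0 := (DerivedCategory.isGE_iff X 0).2 fun i hi => hz i (by lia)
  haveI : DerivedCategory.IsLE X 0 := (DerivedCategory.isLE_iff X 0).2 fun i hi => hz i (by lia)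
  obtain ⟨Y, ⟨eY⟩⟩ := DerivedCategory.exists_iso_singleFunctor_obj_of_isGE_of_isLE X 0
  obtain ⟨e0⟩ := RGammaI.nonempty_HD_equiv (maximalIdeal A) ω 0
  obtain ⟨e1⟩ := DualCx.nonempty_hdi_zero hω hn hf
  exact ⟨eY ≪≫ (DerivedCategory.singleFunctor (ModuleCat.{u} A) 0).mapIso
    (((DerivedCategory.singleFunctorCompHomologyFunctorIso (ModuleCat.{u} A) 0).app Y).symm ≪≫
      (DerivedCategory.homologyFunctor (ModuleCat.{u} A) 0).mapIso eY.symm ≪≫ (e0.trans e1).toModuleIso)⟩

/-- Local duality with derived completion. -/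
theorem localDuality_completion {A : Type u} [CommRing A] [IsLocalRing A] [IsNoetherianRing A] {ω : Dual.D A}
    (hω : Dual.IsDualizing A ω) (hn : Dual.IsNormalized A ω) {E : Type u} [AddCommGroup E] [Module A E]
    {f : (A ⧸ maximalIdeal A) →ₗ[A] E} (hf : InjHull.IsInjectiveHull f) [DRing.HasRgammaI (maximalIdeal A)]
    [DRing.HasDerivedCompletion (maximalIdeal A)] (K G : DRing.Cx A) [DRing.HasRHomCx K] [DRing.HasRHomCx G]
    (hG : Nonempty (DRing.toD G ≅ (DRing.RgammaI (maximalIdeal A)).obj (DRing.toD K))) :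
    Nonempty (((DRing.derivedCompletion (maximalIdeal A)).obj ((DRing.RHomCx K).obj ω)).obj ≅
      (DRing.RHomCx G).obj (Dual.inD A E)) := by
  obtain ⟨e⟩ := nonempty_RΓ_dualizing hω hn hf
  obtain ⟨eG⟩ := hG
  obtain ⟨v⟩ := nonempty_completion_RHom (maximalIdeal A) K G eG ω
  exact ⟨v ≪≫ (DRing.RHomCx G).mapIso e⟩

end

end Groth.Agent.RHomMod
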