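import Groth.Prelude.Def_DRing4
import Groth.Agent.DRingKP.KProj
import Groth.Agent.DTenLib.Base
import Groth.Agent.KFlat.Resolution
import Groth.Agent.KInj.Ops
import Mathlib.Algebra.Homology.HomotopyCategory.MappingCocone
import Mathlib.Algebra.Homology.HomotopyCategory.HomComplexCohomology

/-!
`Hom•` of complexes of modules: both functorialities and mapping cones.
-/

set_option autoImplicit false
set_option maxHeartbeats 1000000
set_option linter.style.haveILetI false
set_option backward.isDefEq.respectTransparency false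
set_option backward.isDefEq.respectTransparency.types false
universe u

namespace Groth.Agent.RHomMod

open CategoryTheory Limits CochainComplex HomComplex

attribute [local instance] HasDerivedCategory.standard

noncomputable section

variable {A : Type u} [CommRing A] {P P' L L' : DRing.Cx A}

/-- precomposition with a chain map -/
def preMap (g : P' ⟶ P) (L : DRing.Cx A) : DRing.homCx P L ⟶ DRing.homCx P' L where
  f i := ModuleCat.ofHom
    { toFun := fun z => (Cochain.ofHom g).comp (show Cochain P L i from z) (zero_add i)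
      map_add' := fun z z' => Cochain.comp_add _ _ _ _
      map_smul' := fun a z => Cochain.comp_smul _ _ _ _ }
  comm' i j _ := by
    ext z
    change δ i j ((Cochain.ofHom g).comp (show Cochain P L i from z) (zero_add i)) =
      (Cochain.ofHom g).comp (δ i j (show Cochain P L i from z)) (zero_add j)
    exact δ_ofHom_comp g _ j

theorem preMap_apply (g : P' ⟶ P) (L : DRing.Cx A) (i : ℤ) (z : Cochain P L i) :
    ((preMap g L).f i).hom z = (Cochain.ofHom g).comp z (zero_add i) := rfl

theorem homCxMap_apply (P : DRing.Cx A) (f : L ⟶ L') (i : ℤ) (z : Cochain P L i) :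
    ((DRing.homCxMap P f).f i).hom z = z.comp (Cochain.ofHom f) (add_zero i) := rfl

theorem preMap_comp {P'' : DRing.Cx A} (g' : P'' ⟶ P') (g : P' ⟶ P) (L : DRing.Cx A) :
    preMap (g' ≫ g) L = preMap g L ≫ preMap g' L :=
  HomologicalComplex.hom_ext _ _ fun i => ModuleCat.hom_ext (LinearMap.ext fun (z : Cochain P L i) => by
    change (Cochain.ofHom (g' ≫ g)).comp z (zero_add i) =
      (Cochain.ofHom g').comp ((Cochain.ofHom g).comp z (zero_add i)) (zero_add i)
    rw [Cochain.ofHom_comp, Cochain.comp_assoc_of_first_is_zero_cochain])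

theorem preMap_smul_id (a : A) (P L : DRing.Cx A) : preMap (a • 𝟙 P) L = a • 𝟙 (DRing.homCx P L) :=
  HomologicalComplex.hom_ext _ _ fun i => ModuleCat.hom_ext (LinearMap.ext fun (z : Cochain P L i) => by
    change (Cochain.ofHom (a • 𝟙 P)).comp z (zero_add i) = a • z
    refine Cochain.ext _ _ fun p q hpq => ?_
    simp)

theorem homCxMap_smul_id (a : A) (P L : DRing.Cx A) :
    DRing.homCxMap P (a • 𝟙 L) = a • 𝟙 (DRing.homCx P L) :=
  HomologicalComplex.hom_ext _ _ fun i => ModuleCat.hom_ext (LinearMap.ext fun (z : Cochain P L i) => by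
    change z.comp (Cochain.ofHom (a • 𝟙 L)) (add_zero i) = a • z
    refine Cochain.ext _ _ fun p q hpq => ?_
    simp)

theorem preMap_homCxMap (g : P' ⟶ P) (f : L ⟶ L') :
    preMap g L ≫ DRing.homCxMap P' f = DRing.homCxMap P f ≫ preMap g L' :=
  HomologicalComplex.hom_ext _ _ fun i => ModuleCat.hom_ext (LinearMap.ext fun (z : Cochain P L i) => by
    change ((Cochain.ofHom g).comp z (zero_add i)).comp (Cochain.ofHom f) (add_zero i) =
      (Cochain.ofHom g).comp (z.comp (Cochain.ofHom f) (add_zero i)) (zero_add i)
    rw [Cochain.comp_assoc_of_first_is_zero_cochain])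

/-- postcomposition with a cochain of degree `-1` -/
def postC (P : DRing.Cx A) (c : Cochain L L' (-1)) : Cochain (DRing.homCx P L) (DRing.homCx P L') (-1) :=
  Cochain.mk fun p q hpq => ModuleCat.ofHom
    { toFun := fun z => (show Cochain P L p from z).comp c (show p + -1 = q from hpq)
      map_add' := fun _ _' => Cochain.add_comp _ _ _ _
      map_smul' := fun _ _ => Cochain.smul_comp _ _ _ _ }

theorem δ_postC (P : DRing.Cx A) {c : Cochain L L' (-1)} {h : L ⟶ L'} (hc : δ (-1) 0 c = Cochain.ofHom h) :
    δ (-1) 0 (postC P c) = Cochain.ofHom (DRing.homCxMap P h) := by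
  refine Cochain.ext _ _ fun p q hpq => ?_
  obtain rfl : p = q := by lia
  rw [δ_v (-1) 0 (neg_add_cancel 1) _ p p hpq (p - 1) (p + 1) rfl rfl, Cochain.ofHom_v, Int.negOnePow_zero, one_smul]
  refine ModuleCat.hom_ext (LinearMap.ext fun (z : Cochain P L p) => ?_)
  change δ (p - 1) p (z.comp c (show p + -1 = p - 1 by lia)) +
      (δ p (p + 1) z).comp c (show p + 1 + -1 = p by lia) = z.comp (Cochain.ofHom h) (add_zero p)
  rw [δ_comp z c (show p + -1 = p - 1 by lia) (p + 1) 0 p (by lia) rfl (neg_add_cancel 1), hc,
    show ((-1 : ℤ).negOnePow) = -1 from rfl, Units.neg_smul, one_smul]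
  abel

theorem Q_homCxMap_congr (P : DRing.Cx A) {f f' : L ⟶ L'} (h : Homotopy f f') :
    DerivedCategory.Q.map (DRing.homCxMap P f) = DerivedCategory.Q.map (DRing.homCxMap P f') := by
  obtain ⟨c, hc⟩ := Cochain.equivHomotopy _ _ h
  have hc' : δ (-1) 0 c = Cochain.ofHom (f - f') := by rw [Cochain.ofHom_sub, hc, add_sub_cancel_right]
  refine DerivedCategory.Q_map_eq_of_homotopy _ ((Cochain.equivHomotopy _ _).symm ⟨postC P c, ?_⟩)
  rw [δ_postC P hc', ← Cochain.ofHom_add]
  congr 1
  refine HomologicalComplex.hom_ext _ _ fun i => ModuleCat.hom_ext (LinearMap.ext fun (z : Cochain P L i) => ?_)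
  change z.comp (Cochain.ofHom f) (add_zero i) =
    z.comp (Cochain.ofHom (f - f')) (add_zero i) + z.comp (Cochain.ofHom f') (add_zero i)
  rw [← Cochain.comp_add, ← Cochain.ofHom_add, sub_add_cancel]

/-- the comparison map for the cone in the second variable -/
def coneMap (P : DRing.Cx A) (f : L ⟶ L') :
    mappingCone (DRing.homCxMap P f) ⟶ DRing.homCx P (mappingCone f) :=
  mappingCone.desc _ (postC P (mappingCone.inl f)) (DRing.homCxMap P (mappingCone.inr f))
    (by rw [δ_postC P (mappingCone.δ_inl f)]; exact congrArg _ ((DRing.homCxFunctor P).map_comp f (mappingCone.inr f)))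

theorem isIso_coneMap (P : DRing.Cx A) (f : L ⟶ L') : IsIso (coneMap P f) := by
  haveI : ∀ i, IsIso ((coneMap P f).f i) := fun i => by
    let F := DRing.homCxMap P f
    refine ⟨ModuleCat.ofHom
      { toFun := fun w => ((mappingCone.inl F).v (i + 1) i (by lia)).hom
            ((show Cochain P (mappingCone f) i from w).comp (mappingCone.fst f).1 rfl) +
          ((mappingCone.inr F).f i).hom ((show Cochain P (mappingCone f) i from w).comp (mappingCone.snd f) (add_zero i))
        map_add' := fun w w' => by
          erw [Cochain.add_comp, Cochain.add_comp, map_add, map_add]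
          abel
        map_smul' := fun a w => by
          erw [Cochain.smul_comp, Cochain.smul_comp, map_smul, map_smul, ← smul_add]
          rfl }, ?_, ?_⟩
    · refine mappingCone.ext_from F (i + 1) i rfl ?_ ?_
      · rw [Category.comp_id, coneMap, mappingCone.inl_v_desc_f_assoc]
        refine ModuleCat.hom_ext (LinearMap.ext fun (z : Cochain P L (i + 1)) => ?_)
        change ((mappingCone.inl F).v (i + 1) i (by lia)).hom
            ((z.comp (mappingCone.inl f) (by lia : i + 1 + -1 = i)).comp (mappingCone.fst f).1 rfl) +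
          ((mappingCone.inr F).f i).hom ((z.comp (mappingCone.inl f) (by lia : i + 1 + -1 = i)).comp
            (mappingCone.snd f) (add_zero i)) = _
        rw [Cochain.comp_assoc z _ _ (by lia : i + 1 + -1 = i) (neg_add_cancel 1) (by lia),
          Cochain.comp_assoc z _ _ (by lia : i + 1 + -1 = i) (add_zero (-1)) (by lia), mappingCone.inl_fst,
          mappingCone.inl_snd, Cochain.comp_zero, Cochain.comp_id, map_zero, add_zero]
      · rw [Category.comp_id, coneMap, mappingCone.inr_f_desc_f_assoc]
        refine ModuleCat.hom_ext (LinearMap.ext fun (z : Cochain P L' i) => ?_)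
        change ((mappingCone.inl F).v (i + 1) i (by lia)).hom
            ((z.comp (Cochain.ofHom (mappingCone.inr f)) (add_zero i)).comp (mappingCone.fst f).1 rfl) +
          ((mappingCone.inr F).f i).hom ((z.comp (Cochain.ofHom (mappingCone.inr f)) (add_zero i)).comp
            (mappingCone.snd f) (add_zero i)) = _
        rw [Cochain.comp_assoc_of_second_is_zero_cochain, Cochain.comp_assoc_of_second_is_zero_cochain,
          mappingCone.inr_fst, mappingCone.inr_snd, Cochain.comp_zero, Cochain.comp_id, map_zero, zero_add]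
    · refine ModuleCat.hom_ext (LinearMap.ext fun (w : Cochain P (mappingCone f) i) => ?_)
      change ((coneMap P f).f i).hom (((mappingCone.inl F).v (i + 1) i (by lia)).hom
            (w.comp (mappingCone.fst f).1 rfl) + ((mappingCone.inr F).f i).hom (w.comp (mappingCone.snd f) (add_zero i))) = w
      rw [map_add]
      erw [← ModuleCat.comp_apply, ← ModuleCat.comp_apply]
      rw [coneMap, mappingCone.inl_v_desc_f, mappingCone.inr_f_desc_f]
      change (w.comp (mappingCone.fst f).1 rfl).comp (mappingCone.inl f) (by lia) +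
        (w.comp (mappingCone.snd f) (add_zero i)).comp (Cochain.ofHom (mappingCone.inr f)) (add_zero i) = w
      rw [mappingCone.ext_cochain_to_iff f i (i + 1) rfl]
      constructor <;> simp
  exact HomologicalComplex.Hom.isIso_of_components (coneMap P f)

/-- precomposition with the cochain `inl`, with signs -/
def preInl (g : P' ⟶ P) (L : DRing.Cx A) :
    Cochain (DRing.homCx (mappingCone g) L) (DRing.homCx P' L) (-1) :=
  Cochain.mk fun p q hpq => ModuleCat.ofHom
    { toFun := fun z => -p.negOnePow •
        (mappingCone.inl g).comp (show Cochain (mappingCone g) L p from z) (show -1 + p = q by lia)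
      map_add' := fun z z' => by
        erw [Cochain.comp_add, smul_add]
      map_smul' := fun a z => by
        erw [Cochain.comp_smul]
        rw [RingHom.id_apply, smul_comm] }

/-- the comparison map for the cone in the first variable -/
def coconeMap (g : P' ⟶ P) (L : DRing.Cx A) :
    DRing.homCx (mappingCone g) L ⟶ mappingCocone (preMap g L) :=
  mappingCocone.lift _ (preMap (mappingCone.inr g) L) (preInl g L) (by
    refine Cochain.ext _ _ fun p q hpq => ?_
    obtain rfl : p = q := by lia
    rw [Cochain.add_v, Cochain.zero_v, δ_v (-1) 0 (neg_add_cancel 1) _ p p hpq (p - 1) (p + 1) rfl rfl,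
      Cochain.ofHom_v, Int.negOnePow_zero, one_smul, ← preMap_comp]
    refine ModuleCat.hom_ext (LinearMap.ext fun (z : Cochain (mappingCone g) L p) => ?_)
    change δ (p - 1) p (-p.negOnePow • (mappingCone.inl g).comp z (show -1 + p = p - 1 by lia)) +
      (-(p + 1).negOnePow) • (mappingCone.inl g).comp (δ p (p + 1) z) (show -1 + (p + 1) = p by lia) +
      (Cochain.ofHom (g ≫ mappingCone.inr g)).comp z (zero_add p) = 0
    rw [δ_units_smul, δ_comp (mappingCone.inl g) z (show -1 + p = p - 1 by lia) 0 (p + 1) p (by lia) (neg_add_cancel 1) rfl,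
      mappingCone.δ_inl, smul_add, Int.negOnePow_succ, smul_smul, neg_mul, Int.units_mul_self, neg_neg,
      Units.neg_smul, Units.neg_smul, one_smul]
    abel)

theorem isIso_coconeMap (g : P' ⟶ P) (L : DRing.Cx A) : IsIso (coconeMap g L) := by
  haveI : ∀ i, IsIso ((coconeMap g L).f i) := fun i => by
    let F := preMap g L
    rw [ConcreteCategory.isIso_iff_bijective]
    have h1 : ∀ z, ((mappingCocone.fst F).f i).hom (((coconeMap g L).f i).hom z) =
        (Cochain.ofHom (mappingCone.inr g)).comp (show Cochain (mappingCone g) L i from z) (zero_add i) := fun z =>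
      by
      have e : (coconeMap g L).f i ≫ (mappingCocone.fst F).f i = (preMap (mappingCone.inr g) L).f i :=
        mappingCocone.lift_f_fst_f _ _ _ _ i
      exact LinearMap.congr_fun (congrArg ModuleCat.Hom.hom e) z
    have h2 : ∀ z, ((mappingCocone.snd F).v i (i - 1) (by lia)).hom (((coconeMap g L).f i).hom z) =
        -i.negOnePow • (mappingCone.inl g).comp (show Cochain (mappingCone g) L i from z) (show -1 + i = i - 1 by lia) :=
      fun z => by
        have e : (coconeMap g L).f i ≫ (mappingCocone.snd F).v i (i - 1) (by lia) = (preInl g L).v i (i - 1) (by lia) :=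
          mappingCocone.lift_f_snd_v _ _ _ _ i (i - 1) (by lia)
        exact LinearMap.congr_fun (congrArg ModuleCat.Hom.hom e) z
    refine ⟨(injective_iff_map_eq_zero ((coconeMap g L).f i).hom).2 fun z hz => ?_, fun w => ?_⟩
    · change (show Cochain (mappingCone g) L i from z) = 0
      refine (mappingCone.ext_cochain_from_iff g (i - 1) i (by lia)).2 ⟨?_, ?_⟩
      · have := h2 z
        rw [hz, map_zero] at this
        rw [Cochain.comp_zero]
        exact (smul_eq_zero_iff_eq _).1 this.symm
      · have := h1 z
        rw [hz, map_zero] at this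
        rw [Cochain.comp_zero]
        exact this.symm
    · let a : Cochain P L i := ((mappingCocone.fst F).f i).hom w
      let b : Cochain P' L (i - 1) := ((mappingCocone.snd F).v i (i - 1) (by lia)).hom w
      refine ⟨mappingCone.descCochain g (-i.negOnePow • b) a (by lia : i - 1 + 1 = i), ?_⟩
      have hid := fun v => LinearMap.congr_fun (congrArg ModuleCat.Hom.hom (mappingCocone.id_X F i (i - 1) (by lia))) v
      refine (hid _).symm.trans (Eq.trans ?_ (hid w))
      change ((mappingCocone.inl F).v i i (add_zero i)).hom (((mappingCocone.fst F).f i).hom _) +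
          ((mappingCocone.inr F).1.v (i - 1) i (sub_add_cancel i 1)).hom (((mappingCocone.snd F).v i (i - 1) (by lia)).hom _) =
        ((mappingCocone.inl F).v i i (add_zero i)).hom (((mappingCocone.fst F).f i).hom _) +
          ((mappingCocone.inr F).1.v (i - 1) i (sub_add_cancel i 1)).hom (((mappingCocone.snd F).v i (i - 1) (by lia)).hom _)
      erw [h1, h2]
      rw [mappingCone.inr_descCochain, mappingCone.inl_descCochain, smul_smul, neg_mul_neg, Int.units_mul_self, one_smul]
  exact HomologicalComplex.Hom.isIso_of_components (coconeMap g L)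

/-- the shifted cocone is the cone -/
def coneOfCocone {K K' : DRing.Cx A} (φ : K ⟶ K') : (mappingCocone φ)⟦(1 : ℤ)⟧ ≅ mappingCone φ := by
  exact (shiftFunctorCompIsoId (CochainComplex (ModuleCat.{u} A) ℤ) (-1) 1 (neg_add_cancel 1)).app _

/-- `Hom•` is acyclic when there are no morphisms in the derived category, `P` being K-projective. -/
theorem acyclic_homCx_of_kProj (P L : DRing.Cx A) [P.IsKProjective]
    (h : ∀ n : ℤ, Subsingleton (DerivedCategory.Q.obj P ⟶ (DerivedCategory.Q.obj L)⟦n⟧)) :
    (DRing.homCx P L).Acyclic := by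
  intro n
  rw [(DRing.homCx P L).exactAt_iff' (n - 1) n (n + 1) (by simp) (by simp), ShortComplex.moduleCat_exact_iff]
  intro (z : Cochain P L n) (hz : δ n (n + 1) z = 0)
  obtain ⟨H⟩ := DTenLib.homotopic_of_Q_map (R := A) (P := P)
    (f := Cocycle.equivHomShift.symm (Cocycle.mk z (n + 1) rfl hz)) (g := 0)
    ((cancel_mono (((DerivedCategory.Q (C := ModuleCat.{u} A)).commShiftIso n).hom.app L)).1
      (@Subsingleton.elim _ (h n) _ _))
  obtain ⟨w, hw⟩ := (mem_coboundaries_iff (Cocycle.mk z (n + 1) rfl hz) (n - 1) (by lia)).1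
    ((CohomologyClass.toHom_mk_eq_zero_iff _).1
      (by rw [CohomologyClass.toHom_mk, HomotopyCategory.eq_of_homotopy _ _ H, Functor.map_zero]))
  exact ⟨w, hw⟩

/-- `Hom•` is acyclic when there are no morphisms in the derived category, `L` being K-injective. -/
theorem acyclic_homCx_of_kInj (P L : DRing.Cx A) [L.IsKInjective]
    (h : ∀ n : ℤ, Subsingleton (DerivedCategory.Q.obj P ⟶ (DerivedCategory.Q.obj L)⟦n⟧)) :
    (DRing.homCx P L).Acyclic := by
  intro n
  rw [(DRing.homCx P L).exactAt_iff' (n - 1) n (n + 1) (by simp) (by simp), ShortComplex.moduleCat_exact_iff]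
  intro (z : Cochain P L n) (hz : δ n (n + 1) z = 0)
  have hinj : (L⟦n⟧).IsKInjective := inferInstance
  obtain ⟨H⟩ := KInj.nonempty_homotopy_of_Q_map_eq
    (f := Cocycle.equivHomShift.symm (Cocycle.mk z (n + 1) rfl hz)) (g := 0)
    ((cancel_mono (((DerivedCategory.Q (C := ModuleCat.{u} A)).commShiftIso n).hom.app L)).1
      (@Subsingleton.elim _ (h n) _ _))
  rw [sub_zero] at H
  obtain ⟨w, hw⟩ := (mem_coboundaries_iff (Cocycle.mk z (n + 1) rfl hz) (n - 1) (by lia)).1
    ((CohomologyClass.toHom_mk_eq_zero_iff _).1
      (by rw [CohomologyClass.toHom_mk, HomotopyCategory.eq_of_homotopy _ _ H, Functor.map_zero]))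
  exact ⟨w, hw⟩

/-- the cone in the second variable, in the derived category -/
theorem quasiIso_homCxMap_of_acyclic (P : DRing.Cx A) (f : L ⟶ L')
    (h : (DRing.homCx P (mappingCone f)).Acyclic) : QuasiIso (DRing.homCxMap P f) := by
  haveI := isIso_coneMap P f
  exact KFlat.quasiIso_of_acyclic_mappingCone _ (KFlat.acyclic_of_iso (asIso (coneMap P f)).symm h)

/-- the cone in the first variable, in the derived category -/
theorem quasiIso_preMap_of_acyclic (g : P' ⟶ P) (L : DRing.Cx A)
    (h : (DRing.homCx (mappingCone g) L).Acyclic) : QuasiIso (preMap g L) := by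
  haveI := isIso_coconeMap g L
  have h' : (mappingCocone (preMap g L)).Acyclic := KFlat.acyclic_of_iso (asIso (coconeMap g L)) h
  refine KFlat.quasiIso_of_acyclic_mappingCone _ (KFlat.acyclic_of_iso ?_ (DRingKP.acyclic_shift h' 1))
  exact (shiftFunctorCompIsoId (CochainComplex (ModuleCat.{u} A) ℤ) (-1) 1 (neg_add_cancel 1)).app _

end

end Groth.Agent.RHomMod
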