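import Groth.Agent.RHomMod.Complete
import Mathlib.RingTheory.Localization.BaseChange
import Mathlib.RingTheory.Localization.Away.Basic

/-!
The tensor-Hom isomorphism of Hom complexes, and iterated `RHom` out of localizations.
-/

set_option autoImplicit false
set_option maxHeartbeats 1000000
set_option linter.style.haveILetI false
set_option backward.isDefEq.respectTransparency false
set_option backward.isDefEq.respectTransparency.types false
universe u

namespace Groth.Agent.RHomMod

open CategoryTheory Limits MonoidalCategory CochainComplex HomComplex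
open scoped TensorProduct

attribute [local instance] HasDerivedCategory.standard

noncomputable section

variable {A : Type u} [CommRing A]

theorem tp_smul {Z W X : DRing.Cx A} {n : ℤ} (c : A) (f : Cochain (Z ⊗ W) X n) :
    Shriek.tp (c • f) = c • Shriek.tp f :=
  Cochain.ext _ _ fun p r hr => ModuleCat.hom_ext (LinearMap.ext fun z => by
    refine Cochain.ext _ _ fun q s hs => ModuleCat.hom_ext (LinearMap.ext fun w => ?_)
    show (HomologicalComplex.ιTensorObj Z W p q (p + q) rfl ≫ (c • f).v (p + q) s (by lia)).hom (z ⊗ₜ[A] w) =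
      c • (HomologicalComplex.ιTensorObj Z W p q (p + q) rfl ≫ f.v (p + q) s (by lia)).hom (z ⊗ₜ[A] w)
    rw [Cochain.smul_v, Linear.comp_smul]
    rfl)

/-- the tensor-Hom isomorphism of complexes -/
theorem nonempty_curryIso (Z W X : DRing.Cx A) :
    Nonempty (DRing.homCx (Z ⊗ W) X ≅ DRing.homCx Z (DRing.homCx W X)) := by
  let φ : DRing.homCx (Z ⊗ W) X ⟶ DRing.homCx Z (DRing.homCx W X) :=
    { f := fun n => ModuleCat.ofHom
        { toFun := fun f => Shriek.tp (show Cochain (Z ⊗ W) X n from f)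
          map_add' := fun f f' => Shriek.tp_add _ _
          map_smul' := fun c f => tp_smul _ _ }
      comm' := fun i j hij => ModuleCat.hom_ext (LinearMap.ext fun f => by
        change δ i j (Shriek.tp (show Cochain (Z ⊗ W) X i from f)) = Shriek.tp (δ i j (show Cochain (Z ⊗ W) X i from f))
        exact Shriek.tp_δ hij _) }
  haveI : ∀ n, IsIso (φ.f n) := fun n => (ConcreteCategory.isIso_iff_bijective _).2
    ⟨fun _ _ h => Shriek.tp_injective h, fun g => ⟨Shriek.ut g, Shriek.tp_ut g⟩⟩
  haveI := HomologicalComplex.Hom.isIso_of_components φ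
  exact ⟨asIso φ⟩

/-- a flat module in one degree -/
theorem isKFlat_single0 (M : ModuleCat.{u} A) [Module.Flat A M] :
    DRingKP.IsKFlat ((HomologicalComplex.single (ModuleCat.{u} A) (ComplexShape.up ℤ) 0).obj M) := by
  refine DRingKP.isKFlat_of_bounded (b := 0)
    (fun i hi => HomologicalComplex.isZero_single_obj_X _ _ _ _ (by lia)) fun i => ?_
  by_cases h : i = 0
  · subst h
    exact Module.Flat.of_linearEquiv (HomologicalComplex.singleObjXSelf (ComplexShape.up ℤ) 0 M).toLinearEquiv
  · haveI := ModuleCat.subsingleton_of_isZero (HomologicalComplex.isZero_single_obj_X (ComplexShape.up ℤ) 0 M i h)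
    infer_instance

theorem nonempty_away_tensor (f g : A) :
    Nonempty ((Localization.Away f ⊗[A] Localization.Away g) ≃ₗ[A] Localization.Away (f * g)) := by
  let T := Localization.Away f ⊗[A] Localization.Away g
  haveI : IsLocalization.Away (f * g) T := IsLocalization.Away.mul' (Localization.Away f) T f g
  exact ⟨(IsLocalization.algEquiv (Submonoid.powers (f * g)) T (Localization.Away (f * g))).toLinearEquiv⟩

theorem nonempty_RHom_localization_comp (f g : A)
    [DRing.HasRHomCx ((HomologicalComplex.single (ModuleCat.{u} A) (ComplexShape.up ℤ) 0).obj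
      (ModuleCat.of A (Localization.Away f)))]
    [DRing.HasRHomCx ((HomologicalComplex.single (ModuleCat.{u} A) (ComplexShape.up ℤ) 0).obj
      (ModuleCat.of A (Localization.Away g)))]
    [DRing.HasRHomCx ((HomologicalComplex.single (ModuleCat.{u} A) (ComplexShape.up ℤ) 0).obj
      (ModuleCat.of A (Localization.Away (f * g))))]
    (K : Dual.D A) :
    Nonempty ((DRing.RHomCx ((HomologicalComplex.single (ModuleCat.{u} A) (ComplexShape.up ℤ) 0).obj
        (ModuleCat.of A (Localization.Away f)))).obj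
      ((DRing.RHomCx ((HomologicalComplex.single (ModuleCat.{u} A) (ComplexShape.up ℤ) 0).obj
        (ModuleCat.of A (Localization.Away g)))).obj K) ≅
      (DRing.RHomCx ((HomologicalComplex.single (ModuleCat.{u} A) (ComplexShape.up ℤ) 0).obj
        (ModuleCat.of A (Localization.Away (f * g))))).obj K) := by
  let s := HomologicalComplex.single (ModuleCat.{u} A) (ComplexShape.up ℤ) 0
  let Mf := ModuleCat.of A (Localization.Away f)
  let Mg := ModuleCat.of A (Localization.Away g)
  let Mfg := ModuleCat.of A (Localization.Away (f * g))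
  haveI : Module.Flat A Mf := IsLocalization.flat (Localization.Away f) (Submonoid.powers f)
  haveI : Module.Flat A Mg := IsLocalization.flat (Localization.Away g) (Submonoid.powers g)
  obtain ⟨P₁, c₁, hP₁, hc₁, hF₁⟩ := exists_kProj_kFlat_resolution (s.obj Mf)
  obtain ⟨P₂, c₂, hP₂, hc₂, hF₂⟩ := exists_kProj_kFlat_resolution (s.obj Mg)
  obtain ⟨P₃, c₃, hP₃, hc₃, -⟩ := exists_kProj_kFlat_resolution (s.obj Mfg)
  haveI := hP₁; haveI := hP₂; haveI := hP₃; haveI := hc₁; haveI := hc₂; haveI := hc₃
  obtain ⟨J, hJ, ⟨eJ⟩⟩ := exists_rep K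
  haveI := hJ
  obtain ⟨eM⟩ := nonempty_away_tensor f g
  let eS : s.obj Mf ⊗ s.obj Mg ≅ s.obj Mfg :=
    DRingKP.tensSingleIso (s.obj Mf) Mg ≪≫
      (HomologicalComplex.singleMapHomologicalComplex (tensorRight Mg) (ComplexShape.up ℤ) 0).app Mf ≪≫
      s.mapIso (eM.toModuleIso)
  haveI : QuasiIso (c₁ ▷ P₂) := DRingKP.quasiIso_whiskerRight hF₂ c₁
  haveI : QuasiIso (s.obj Mf ◁ c₂) := DRingKP.quasiIso_whiskerLeft c₂ hF₂ (isKFlat_single0 Mg) _
  let q : P₁ ⊗ P₂ ⟶ s.obj Mfg := (c₁ ▷ P₂) ≫ (s.obj Mf ◁ c₂) ≫ eS.hom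
  haveI := quasiIso_preMap q J
  haveI := quasiIso_preMap c₃ J
  obtain ⟨a⟩ := nonempty_RHomCx_iso (s.obj Mg) c₂ eJ.symm
  obtain ⟨b⟩ := nonempty_RHomCx_iso (s.obj Mf) c₁ a.symm
  obtain ⟨d⟩ := nonempty_RHomCx_iso (s.obj Mfg) c₃ eJ.symm
  obtain ⟨u⟩ := nonempty_curryIso P₁ P₂ J
  exact ⟨b ≪≫ DerivedCategory.Q.mapIso u.symm ≪≫ (asIso (DerivedCategory.Q.map (preMap q J))).symm ≪≫
    asIso (DerivedCategory.Q.map (preMap c₃ J)) ≪≫ d.symm⟩

end

end Groth.Agent.RHomMod
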