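import Groth.Agent.RHomMod.Completion
import Groth.Agent.RGCompl.Model
import Groth.Agent.CechX.Props
import Groth.Agent.CechX.EC
import Mathlib.Algebra.Homology.HomotopyCategory.HomComplexSingle

/-!
Derived completion as `RHom` out of the extended Čech complex.
-/

set_option autoImplicit false
set_option maxHeartbeats 1000000
set_option linter.style.haveILetI false
set_option backward.isDefEq.respectTransparency false
set_option backward.isDefEq.respectTransparency.types false
universe u

namespace Groth.Agent.RHomMod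

open CategoryTheory Limits Pretriangulated CochainComplex RGammaI

attribute [local instance] HasDerivedCategory.standard

noncomputable section

variable {A : Type u} [CommRing A] (I : Ideal A)

theorem noHom_of_smulBij {f : A} (hf : f ∈ I) {L : DRing.Cx A} (h : CechX.SmulBij f L) :
    NoHom I (DerivedCategory.Q.obj L) := by
  haveI : ∀ p, IsIso ((f • 𝟙 L : L ⟶ L).f p) := fun p => (ConcreteCategory.isIso_iff_bijective _).2 (h p)
  haveI : IsIso (f • 𝟙 L : L ⟶ L) := HomologicalComplex.Hom.isIso_of_components _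
  intro E hE
  refine subsingleton_hom_of_div (f := f) (fun v => ⟨DerivedCategory.Q.map (inv (f • 𝟙 L : L ⟶ L)) ≫ v, ?_⟩)
    (fun n => (DRingKP.isDerivedComplete_iff I E).1 hE f hf n)
  rw [← Linear.smul_comp, ← Functor.map_smul]
  have e : f • inv (f • 𝟙 L : L ⟶ L) = 𝟙 L := by
    conv_lhs => rw [← Category.id_comp (inv (f • 𝟙 L : L ⟶ L)), ← Linear.smul_comp]
    exact IsIso.hom_inv_id _
  rw [e, CategoryTheory.Functor.map_id, Category.id_comp]

theorem smulBij_locCx (f : A) (L : DRing.Cx A) : CechX.SmulBij f ((DerCA.locCx (Submonoid.powers f)).obj L) := fun p => by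
  change Function.Bijective (fun z : LocalizedModule (Submonoid.powers f) (L.X p) => f • z)
  exact (Module.End.isUnit_iff _).1
    (IsLocalizedModule.map_units (LocalizedModule.mkLinearMap (Submonoid.powers f) (L.X p)) (⟨f, 1, pow_one f⟩ : Submonoid.powers f))

theorem bijective_precomp_ecπ (K : DRing.Cx A) : ∀ fs : List A, (∀ f ∈ fs, f ∈ I) → ∀ E : Dual.D A,
    DRing.IsDerivedComplete I E →
      Function.Bijective (fun φ : DerivedCategory.Q.obj K ⟶ E => DerivedCategory.Q.map (RGCompl.ecπ fs K) ≫ φ)
  | [], _, E, _ => by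
    have e : (fun φ : DerivedCategory.Q.obj K ⟶ E => DerivedCategory.Q.map (RGCompl.ecπ ([] : List A) K) ≫ φ) = id :=
      funext fun φ => by
        show DerivedCategory.Q.map (𝟙 K) ≫ φ = φ
        rw [CategoryTheory.Functor.map_id, Category.id_comp]
    rw [e]
    exact Function.bijective_id
  | f :: fs, hfs, E, hE => by
    have ih := bijective_precomp_ecπ K fs (fun g hg => hfs g (List.mem_cons_of_mem f hg)) E hE
    let φ := DerCA.locCxUnit (Submonoid.powers f) (CechX.EC fs K)
    have hT : DerivedCategory.Q.mapTriangle.obj (mappingCocone.triangle φ) ∈ distTriang (Dual.D A) :=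
      (rotate_distinguished_triangle _).2 (isomorphic_distinguished _
        (DerivedCategory.mappingCone_triangle_distinguished φ) _
        ((DerivedCategory.Q.mapTriangleRotateIso).app (mappingCocone.triangle φ) ≪≫
          DerivedCategory.Q.mapTriangle.mapIso (mappingCocone.rotateTriangleIso φ)))
    have hb := bijective_of_noHom I hT (noHom_of_smulBij I (hfs f List.mem_cons_self) (smulBij_locCx f _)) hE
    have e : (fun v : DerivedCategory.Q.obj K ⟶ E => DerivedCategory.Q.map (RGCompl.ecπ (f :: fs) K) ≫ v) =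
        (fun v => DerivedCategory.Q.map (mappingCocone.fst φ) ≫ v) ∘
          (fun v : DerivedCategory.Q.obj K ⟶ E => DerivedCategory.Q.map (RGCompl.ecπ fs K) ≫ v) := funext fun v => by
      show DerivedCategory.Q.map (mappingCocone.fst φ ≫ RGCompl.ecπ fs K) ≫ v = _
      rw [Functor.map_comp, Category.assoc]
      rfl
    rw [e]
    exact hb.comp ih

theorem noHom_cone_of_bijective {X Y C : Dual.D A} {u : X ⟶ Y} {g : Y ⟶ C} {δ : C ⟶ X⟦(1 : ℤ)⟧}
    (hT : Triangle.mk u g δ ∈ distTriang (Dual.D A))
    (h : ∀ E, DRing.IsDerivedComplete I E → Function.Bijective (fun φ : Y ⟶ E => u ≫ φ)) : NoHom I C := fun E hE =>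
  subsingleton_of_forall_eq 0 fun v => by
    have h0 : g ≫ v = 0 := (h E hE).1 (by
      change u ≫ g ≫ v = u ≫ 0
      rw [comp_zero, ← Category.assoc, show u ≫ g = 0 from comp_distTriang_mor_zero₁₂ _ hT, zero_comp])
    obtain ⟨w, hw⟩ := Triangle.yoneda_exact₃ _ hT v h0
    obtain ⟨w', hw'⟩ := (DRingKP.bijective_precomp_shift u (h _ (complete_shift hE (-1)))).2 w
    rw [hw, ← hw', ← Category.assoc]
    exact (congrArg (· ≫ w') (comp_distTriang_mor_zero₃₁ _ hT)).trans zero_comp

theorem isPowerTorsion_EC (fs : List A) (hI : Ideal.span {x | x ∈ fs} = I) (K : DRing.Cx A) (n : ℤ) :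
    LocCoh.IsPowerTorsion I (Dual.HD A (DerivedCategory.Q.obj (CechX.EC fs K)) n) := by
  classical
  have he : (fs.toFinset : Set A) = {x | x ∈ fs} := by ext; simp
  have h := isPowerTorsion_of_tkill (X := DerivedCategory.Q.obj (CechX.EC fs K)) fs.toFinset fun f hf q z => by
    let e := (DerivedCategory.homologyFunctorFactors (ModuleCat.{u} A) q).app (CechX.EC fs K)
    obtain ⟨c, hc⟩ := FlatCx.homologyπ_surjective (CechX.EC fs K) (e.hom z)
    obtain ⟨m, y, hy⟩ := CechX.tors_EC fs f (List.mem_toFinset.1 hf) K (q - 1) q (sub_add_cancel q 1)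
      ((CechX.EC fs K).iCycles q c) (FlatCx.d_iCycles (CechX.EC fs K) (k := q + 1) c)
    refine ⟨m, e.toLinearEquiv.injective ?_⟩
    rw [map_smul, map_zero]
    show f ^ m • e.hom z = 0
    rw [← hc]
    refine Eq.trans (map_smul ((CechX.EC fs K).homologyπ q).hom (f ^ m) c).symm ?_
    exact (FlatCx.homologyπ_eq_zero_iff (CechX.EC fs K) (i := q - 1) (by simp) _).2
      ⟨y, hy.trans (map_smul ((CechX.EC fs K).iCycles q).hom _ _).symm⟩
  rw [he, hI] at h
  exact h n

/-- `Hom•(A, J) ≅ J` -/
theorem nonempty_unit (J : DRing.Cx A) : Nonempty (DerivedCategory.Q.obj J ≅ DerivedCategory.Q.obj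
    (DRing.homCx ((CochainComplex.singleFunctor (ModuleCat.{u} A) 0).obj (ModuleCat.of A A)) J)) := by
  let S := (CochainComplex.singleFunctor (ModuleCat.{u} A) 0).obj (ModuleCat.of A A)
  let F : ∀ n : ℤ, J.X n → HomComplex.Cochain S J n := fun n y =>
    HomComplex.Cochain.fromSingleMk (ModuleCat.ofHom (LinearMap.toSpanSingleton A (J.X n) y)) (zero_add n)
  have hadd : ∀ n y y', F n (y + y') = F n y + F n y' := fun n y y' => by
    show _ = _
    simp only [F]
    rw [← HomComplex.Cochain.fromSingleMk_add]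
    congr 1
    exact ModuleCat.hom_ext (LinearMap.ext_ring (by simp))
  have hsmul : ∀ (n : ℤ) (a : A) y, F n (a • y) = a • F n y := fun n a y =>
    (HomComplex.Cochain.fromSingleEquiv (zero_add n)).injective (by
      simp only [F, HomComplex.Cochain.fromSingleEquiv_fromSingleMk]
      simp only [HomComplex.Cochain.fromSingleEquiv]
      refine ModuleCat.hom_ext (LinearMap.ext_ring ?_)
      simp [HomComplex.Cochain.fromSingleMk_v])
  let φ : J ⟶ DRing.homCx S J :=
    { f := fun n => ModuleCat.ofHom { toFun := F n, map_add' := hadd n, map_smul' := hsmul n }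
      comm' := fun i j hij => by
        obtain rfl : i + 1 = j := hij
        refine ModuleCat.hom_ext (LinearMap.ext fun y => ?_)
        change HomComplex.δ i (i + 1) (F i y) = F (i + 1) (J.d i (i + 1) y)
        simp only [F]
        rw [HomComplex.Cochain.δ_fromSingleMk (q' := i + 1) _ (zero_add i) (i + 1) (zero_add _)]
        congr 1
        exact ModuleCat.hom_ext (LinearMap.ext_ring (by simp)) }
  haveI : ∀ n, IsIso (φ.f n) := fun n => (ConcreteCategory.isIso_iff_bijective _).2 (by
    show Function.Bijective (F n)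
    refine ⟨fun y y' h => ?_, fun z => ?_⟩
    · have h1 := congrArg (HomComplex.Cochain.fromSingleEquiv (zero_add n)) h
      simp only [F, HomComplex.Cochain.fromSingleEquiv_fromSingleMk] at h1
      simpa using LinearMap.congr_fun (congrArg ModuleCat.Hom.hom h1) (1 : A)
    · let g := HomComplex.Cochain.fromSingleEquiv (zero_add n) z
      refine ⟨g.hom (1 : A), (HomComplex.Cochain.fromSingleEquiv (zero_add n)).injective ?_⟩
      simp only [F, HomComplex.Cochain.fromSingleEquiv_fromSingleMk]
      exact ModuleCat.hom_ext (LinearMap.ext_ring (by simp [g])))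
  haveI := HomologicalComplex.Hom.isIso_of_components φ
  exact ⟨DerivedCategory.Q.mapIso (asIso φ)⟩

theorem derivedCompletion_iso_extCech {fs : List A} (hI : Ideal.span {x : A | x ∈ fs} = I)
    [DRing.HasDerivedCompletion I] [DRing.HasRHomCx (DerCA.extCech (ModuleCat.of A A) fs)] (X : Dual.D A) :
    Nonempty (((DRing.derivedCompletion I).obj X).obj ≅
      (DRing.RHomCx (DerCA.extCech (ModuleCat.of A A) fs)).obj X) := by
  let S : DRing.Cx A := (HomologicalComplex.single (ModuleCat.{u} A) (ComplexShape.up ℤ) 0).obj (ModuleCat.of A A)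
  have hC := CechX.extCech_eq (ModuleCat.of A A) fs
  obtain ⟨C, hC'⟩ : ∃ C, DerCA.extCech (ModuleCat.of A A) fs = C := ⟨_, rfl⟩
  obtain ⟨G, c, hG, hc, hGf⟩ := exists_kProj_kFlat_resolution (DerCA.extCech (ModuleCat.of A A) fs)
  haveI := hG; haveI := hc
  haveI hS : S.IsKProjective :=
    DRingKP.isKProjective_of_vanishesAbove (b := 0) (fun i hi => HomologicalComplex.isZero_single_obj_X _ _ _ _ (by lia))
      (fun i => by
        by_cases h : i = 0
        · subst h
          exact Projective.of_iso (HomologicalComplex.singleObjXSelf (ComplexShape.up ℤ) 0 (ModuleCat.of A A)).symm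
            ((IsProjective.iff_projective _).1 inferInstance)
        · exact (HomologicalComplex.isZero_single_obj_X (ComplexShape.up ℤ) 0 (ModuleCat.of A A) i h).projective)
  haveI := hasRHomCx S
  obtain ⟨J, hJ, ⟨eJ⟩⟩ := exists_rep X
  haveI := hJ
  let π : DerCA.extCech (ModuleCat.of A A) fs ⟶ S := eqToHom hC ≫ RGCompl.ecπ fs S
  have hfs : ∀ f ∈ fs, f ∈ I := fun f hf => hI ▸ Ideal.subset_span hf
  have hπ : ∀ E, DRing.IsDerivedComplete I E →
      Function.Bijective (fun φ : DerivedCategory.Q.obj S ⟶ E => DerivedCategory.Q.map (c ≫ π) ≫ φ) := fun E hE => by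
    have h := bijective_precomp_ecπ I S fs hfs E hE
    refine ⟨fun a b hab => h.1 ((cancel_epi (DerivedCategory.Q.map (c ≫ eqToHom hC))).1 ?_), fun v => ?_⟩
    · simpa [π] using hab
    · obtain ⟨w, hw⟩ := h.2 (inv (DerivedCategory.Q.map (c ≫ eqToHom hC)) ≫ v)
      refine ⟨w, ?_⟩
      change DerivedCategory.Q.map (RGCompl.ecπ fs S) ≫ w = _ at hw
      change DerivedCategory.Q.map (c ≫ eqToHom hC ≫ RGCompl.ecπ fs S) ≫ w = v
      rw [← Category.assoc c, Functor.map_comp, Category.assoc, hw, IsIso.hom_inv_id_assoc]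
  have htor : ∀ n, LocCoh.IsPowerTorsion I (Dual.HD A (DerivedCategory.Q.obj G) n) := fun n => by
    have e : DerivedCategory.Q.obj (CechX.EC fs S) ≅ DerivedCategory.Q.obj G :=
      DerivedCategory.Q.mapIso (eqToIso hC.symm) ≪≫ (asIso (DerivedCategory.Q.map c)).symm
    intro y
    let e' := ((DerivedCategory.homologyFunctor (ModuleCat.{u} A) n).mapIso e).toLinearEquiv
    obtain ⟨k, hk⟩ := isPowerTorsion_EC I fs hI S n (e'.symm y)
    exact ⟨k, fun a ha => e'.symm.injective (by rw [map_smul, hk a ha, map_zero])⟩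
  have hN : NoHom I (DerivedCategory.Q.obj (mappingCone (c ≫ π))) :=
    noHom_cone_of_bijective I (DerivedCategory.mappingCone_triangle_distinguished (c ≫ π)) hπ
  have hu : NoHom I (DerivedCategory.Q.obj (mappingCone (preMap (c ≫ π) J))) := by
    haveI := isIso_coconeMap (c ≫ π) J
    let e : (DRing.homCx (mappingCone (c ≫ π)) J)⟦(1 : ℤ)⟧ ≅ mappingCone (preMap (c ≫ π) J) :=
      (CategoryTheory.shiftFunctor _ (1 : ℤ)).mapIso (asIso (coconeMap (c ≫ π) J)) ≪≫ coneOfCocone _
    exact ((noHom_shift (noHom_homCx_of_kz I J fs hfs _ (kz_of_noHom I fs hI hN)) 1).of_iso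
      (((DerivedCategory.Q).commShiftIso (1 : ℤ)).app _).symm).of_iso (DerivedCategory.Q.mapIso e)
  obtain ⟨v, -⟩ := DRingKP.exists_iso_completion I (DerivedCategory.Q.map (preMap (c ≫ π) J))
    (isDerivedComplete_homCx I hGf htor) fun E hE =>
      bijective_of_noHom I (DerivedCategory.mappingCone_triangle_distinguished (preMap (c ≫ π) J)) hu hE
  obtain ⟨b⟩ := nonempty_RHomCx_iso (DerCA.extCech (ModuleCat.of A A) fs) c eJ.symm
  obtain ⟨u⟩ := nonempty_unit J
  exact ⟨(ObjectProperty.ι _).mapIso ((DRing.derivedCompletion I).mapIso (eJ ≪≫ u)) ≪≫ v.symm ≪≫ b.symm⟩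

end

end Groth.Agent.RHomMod
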