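import Groth.Agent.RHomMod.Derived
import Groth.Agent.DRingKP.BC
import Mathlib.Algebra.Homology.HomotopyCategory.HomComplexSingle
import Mathlib.LinearAlgebra.Dual.Lemmas

/-!
The dual of a perfect complex.
-/

set_option autoImplicit false
set_option maxHeartbeats 1000000
set_option linter.style.haveILetI false
set_option backward.isDefEq.respectTransparency false
set_option backward.isDefEq.respectTransparency.types false
universe u

namespace Groth.Agent.RHomMod

open CategoryTheory Limits CochainComplex HomComplex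

attribute [local instance] HasDerivedCategory.standard

noncomputable section

variable {A : Type u} [CommRing A]

/-- the ring, in degree zero -/
abbrev one₀ (A : Type u) [CommRing A] : DRing.Cx A :=
  (CochainComplex.singleFunctor (ModuleCat.{u} A) 0).obj (ModuleCat.of A A)

/-- the dual complex -/
abbrev dualCx (P : DRing.Cx A) : DRing.Cx A := DRing.homCx P (one₀ A)

/-- a cochain into `A[0]` is a functional -/
def tsE (P : DRing.Cx A) {p n : ℤ} (h : p + n = 0) : Cochain P (one₀ A) n ≃ₗ[A] Module.Dual A (P.X p) where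
  toFun z := (Cochain.toSingleEquiv h z).hom
  invFun l := Cochain.toSingleMk (ModuleCat.ofHom l) h
  map_add' z z' := by rw [map_add, ModuleCat.hom_add]
  map_smul' a z := by
    simp [Cochain.toSingleEquiv]
  left_inv z := (Cochain.toSingleEquiv h).left_inv z
  right_inv l := by simp

theorem tsE_toSingleMk (P : DRing.Cx A) {p n : ℤ} (h : p + n = 0) (g : P.X p ⟶ ModuleCat.of A A) :
    tsE P h (Cochain.toSingleMk g h) = g.hom := congrArg ModuleCat.Hom.hom (Cochain.toSingleEquiv_toSingleMk g h)

theorem tsE_δ (P : DRing.Cx A) {p p' n n' : ℤ} (h : p + n = 0) (h' : p' + n' = 0) (z : Cochain P (one₀ A) n)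
    (x : P.X p') : tsE P h' (δ n n' z) x = ((n'.negOnePow : ℤˣ) : ℤ) • tsE P h z (P.d p' p x) := by
  obtain ⟨g, rfl⟩ := Cochain.toSingleMk_surjective z p h
  rw [Cochain.δ_toSingleMk g h n' p' h', Units.smul_def, map_zsmul, LinearMap.smul_apply, tsE_toSingleMk,
    tsE_toSingleMk]
  rfl

/-- evaluation at an element -/
def evAt (P : DRing.Cx A) (p : ℤ) : P.X p →ₗ[A] Module.Dual A ((dualCx P).X (-p)) where
  toFun x :=
    { toFun := fun z => tsE P (add_neg_cancel p) (show Cochain P (one₀ A) (-p) from z) x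
      map_add' := fun z z' => by erw [map_add]; rfl
      map_smul' := fun a z => by erw [map_smul]; rfl }
  map_add' x y := LinearMap.ext fun z => map_add (tsE P (add_neg_cancel p) (show Cochain P (one₀ A) (-p) from z)) x y
  map_smul' a x := LinearMap.ext fun z => map_smul (tsE P (add_neg_cancel p) (show Cochain P (one₀ A) (-p) from z)) a x

/-- biduality -/
def bidual (P : DRing.Cx A) : P ⟶ dualCx (dualCx P) where
  f p := ModuleCat.ofHom (((p.negOnePow : ℤˣ) : ℤ) •
    ((tsE (dualCx P) (neg_add_cancel p)).symm.toLinearMap.comp (evAt P p)))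
  comm' p q hpq := by
    obtain rfl : p + 1 = q := hpq
    refine ModuleCat.hom_ext (LinearMap.ext fun x => (tsE (dualCx P) (neg_add_cancel (p + 1))).injective
      (LinearMap.ext fun (z : Cochain P (one₀ A) (-(p + 1))) => ?_))
    change tsE (dualCx P) (neg_add_cancel (p + 1))
        (δ p (p + 1) (((p.negOnePow : ℤˣ) : ℤ) • (tsE (dualCx P) (neg_add_cancel p)).symm (evAt P p x))) z =
      tsE (dualCx P) (neg_add_cancel (p + 1))
        ((((p + 1).negOnePow : ℤˣ) : ℤ) • (tsE (dualCx P) (neg_add_cancel (p + 1))).symm (evAt P (p + 1) (P.d p (p + 1) x))) z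
    rw [map_zsmul (tsE (dualCx P) (neg_add_cancel (p + 1))), LinearEquiv.apply_symm_apply, LinearMap.smul_apply,
      tsE_δ (dualCx P) (neg_add_cancel p) (neg_add_cancel (p + 1)), map_zsmul, LinearMap.smul_apply,
      LinearEquiv.apply_symm_apply]
    change _ • _ • tsE P (add_neg_cancel p) (δ (-(p + 1)) (-p) z) x =
      _ • tsE P (add_neg_cancel (p + 1)) z (P.d p (p + 1) x)
    rw [tsE_δ P (add_neg_cancel (p + 1)) (add_neg_cancel p), smul_smul, smul_smul, Int.negOnePow_neg]
    congr 1
    rw [mul_assoc, ← Units.val_mul, ← Units.val_mul, Int.units_mul_self, mul_one]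

theorem isIso_bidual {P : DRing.Cx A} (hP : DRing.TermwiseFiniteProjective P) : IsIso (bidual P) := by
  haveI : ∀ p, IsIso ((bidual P).f p) := fun p => (ConcreteCategory.isIso_iff_bijective _).2 (by
    obtain ⟨_, _⟩ := hP p
    haveI : Module.IsReflexive A (P.X p) := inferInstance
    let e : ↑((dualCx P).X (-p)) ≃ₗ[A] Module.Dual A (P.X p) := tsE P (add_neg_cancel p)
    have h1 : Function.Bijective (evAt P p) := by
      have : evAt P p = (e.dualMap).toLinearMap.comp (Module.Dual.eval A (P.X p)) := rfl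
      rw [this]
      exact e.dualMap.bijective.comp (Module.bijective_dual_eval A (P.X p))
    have h2 := (tsE (dualCx P) (neg_add_cancel p)).symm.bijective.comp h1
    show Function.Bijective fun x => ((p.negOnePow : ℤˣ) : ℤ) • (tsE (dualCx P) (neg_add_cancel p)).symm (evAt P p x)
    rcases Int.units_eq_one_or p.negOnePow with h | h
    · simp only [h, Units.val_one, one_smul]
      exact h2
    · simp only [h, Units.val_neg, Units.val_one, neg_smul, one_smul]
      exact (Equiv.neg _).bijective.comp h2)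
  exact HomologicalComplex.Hom.isIso_of_components _

theorem dualCx_finiteProjective {P : DRing.Cx A} {a b : ℤ} (hv : DRing.VanishesOutside P a b)
    (hP : DRing.TermwiseFiniteProjective P) :
    DRing.VanishesOutside (dualCx P) (-b) (-a) ∧ DRing.TermwiseFiniteProjective (dualCx P) := by
  refine ⟨fun n hn => ?_, fun n => ?_⟩
  · haveI := ModuleCat.subsingleton_of_isZero (hv (-n) (by lia))
    haveI : Subsingleton ((dualCx P).X n) := (tsE P (neg_add_cancel n)).toEquiv.subsingleton
    exact ModuleCat.isZero_of_subsingleton _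
  · obtain ⟨_, _⟩ := hP (-n)
    exact ⟨Module.Finite.equiv (tsE P (neg_add_cancel n)).symm, Module.Projective.of_equiv (tsE P (neg_add_cancel n)).symm⟩

theorem isKProjective_of_finiteProjective {P : DRing.Cx A} {a b : ℤ} (hv : DRing.VanishesOutside P a b)
    (hP : DRing.TermwiseFiniteProjective P) : P.IsKProjective :=
  DRingKP.isKProjective_of_vanishesAbove (fun i hi => hv i (Or.inr hi))
    fun i => haveI := (hP i).2; (IsProjective.iff_projective (P.X i)).1 inferInstance

theorem nonempty_RHom_perfect (E : DRing.Cx A) [DRing.HasRHomCx E] {P : DRing.Cx A} {a b : ℤ}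
    (hv : DRing.VanishesOutside P a b) (hP : DRing.TermwiseFiniteProjective P) (e : DRing.toD P ≅ DRing.toD E) :
    Nonempty ((DRing.RHomCx E).obj (Dual.inD A A) ≅ DRing.toD (dualCx P)) := by
  haveI := isKProjective_of_finiteProjective hv hP
  obtain ⟨c, hc⟩ := PerfLocal.exists_lift (R := A) e.hom
  haveI : IsIso (DerivedCategory.Q.map c) := by rw [hc]; infer_instance
  haveI : QuasiIso c := (DerivedCategory.isIso_Q_map_iff_quasiIso _ c).1 inferInstance
  exact nonempty_RHomCx_iso E c ((DerivedCategory.singleFunctorIsoCompQ (ModuleCat.{u} A) 0).app _).symm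

theorem perfect_dual (K : Dual.D A) (hK : DRing.IsPerfect A K) (E : DRing.Cx A) (eK : DRing.toD E ≅ K)
    [DRing.HasRHomCx E] :
    DRing.IsPerfect A ((DRing.RHomCx E).obj (Dual.inD A A)) ∧
      ∀ (E' : DRing.Cx A) (_ : DRing.toD E' ≅ (DRing.RHomCx E).obj (Dual.inD A A)) [DRing.HasRHomCx E'],
        Nonempty ((DRing.RHomCx E').obj (Dual.inD A A) ≅ K) := by
  obtain ⟨P, a, b, hv, hP, ⟨e⟩⟩ := hK
  obtain ⟨hv', hP'⟩ := dualCx_finiteProjective hv hP
  obtain ⟨d⟩ := nonempty_RHom_perfect E hv hP (e ≪≫ eK.symm)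
  refine ⟨⟨dualCx P, -b, -a, hv', hP', ⟨d.symm⟩⟩, fun E' eK' _ => ?_⟩
  obtain ⟨d'⟩ := nonempty_RHom_perfect E' hv' hP' (d.symm ≪≫ eK'.symm)
  haveI := isIso_bidual hP
  exact ⟨d' ≪≫ (DerivedCategory.Q.mapIso (asIso (bidual P))).symm ≪≫ e⟩

end

end Groth.Agent.RHomMod
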