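import Groth.Agent.RHomMod.Derived
import Groth.Agent.RGammaI.GM

/-!
`RΓ_I` and `RHom`: objects killed by `RΓ_I`.
-/

set_option autoImplicit false
set_option maxHeartbeats 1000000
set_option linter.style.haveILetI false
set_option backward.isDefEq.respectTransparency false
set_option backward.isDefEq.respectTransparency.types false
universe u

namespace Groth.Agent.RHomMod

open CategoryTheory Limits Pretriangulated CochainComplex RGammaI

attribute [local instance] HasDerivedCategory.standard

noncomputable section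

variable {A : Type u} [CommRing A]

/-- iterated cones of multiplications vanish -/
def KZ : List A → Dual.D A → Prop
  | [], X => IsZero X
  | f :: t, X => ∀ C, IsMulCone f X C → KZ t C

theorem isMulCone_Q (f : A) (N : DRing.Cx A) :
    IsMulCone f (DerivedCategory.Q.obj N) (DerivedCategory.Q.obj (mappingCone (f • 𝟙 N))) :=
  ⟨(DerivedCategory.Q.mapTriangle.obj (CochainComplex.mappingCone.triangle (f • 𝟙 N))).mor₂,
    (DerivedCategory.Q.mapTriangle.obj (CochainComplex.mappingCone.triangle (f • 𝟙 N))).mor₃,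
    isomorphic_distinguished _ (DerivedCategory.mappingCone_triangle_distinguished (f • 𝟙 N)) _
      (Triangle.isoMk _ _ (Iso.refl _) (Iso.refl _) (Iso.refl _) (by show (f • 𝟙 _) ≫ 𝟙 _ = 𝟙 _ ≫ DerivedCategory.Q.map (f • 𝟙 N); simp) (by simp) (by simp))⟩

theorem isZero_Q_of_acyclic {L : DRing.Cx A} (h : L.Acyclic) : IsZero (DerivedCategory.Q.obj L) :=
  isZero_of_HD fun n => (((L.exactAt_iff_isZero_homology n).1 (h n)).of_iso
    ((DerivedCategory.homologyFunctorFactors (ModuleCat.{u} A) n).app L))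

theorem noHom_of_isZero {I : Ideal A} {X : Dual.D A} (h : IsZero X) : NoHom I X :=
  fun _ _ => ⟨fun a b => h.eq_of_src a b⟩

theorem noHom_homCx_of_kz (I : Ideal A) (J : DRing.Cx A) [J.IsKInjective] :
    ∀ t : List A, (∀ f ∈ t, f ∈ I) → ∀ N : DRing.Cx A, KZ t (DerivedCategory.Q.obj N) →
      NoHom I (DerivedCategory.Q.obj (DRing.homCx N J)) := by
  intro t
  induction t with
  | nil =>
    exact fun _ N hN => noHom_of_isZero
      (isZero_Q_of_acyclic (acyclic_homCx_of_kInj N J fun n => ⟨fun a b => hN.eq_of_src a b⟩))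
  | cons f t ih =>
    intro ht N hN
    have h1 := ih (fun g hg => ht g (List.mem_cons_of_mem f hg)) _ (hN _ (isMulCone_Q f N))
    haveI := isIso_coconeMap (f • 𝟙 N) J
    let φ := f • 𝟙 (DRing.homCx N J)
    have e0 : mappingCocone (preMap (f • 𝟙 N) J) = mappingCocone φ := by
      simp only [φ, preMap_smul_id]
    let e : (DRing.homCx (mappingCone (f • 𝟙 N)) J)⟦(1 : ℤ)⟧ ≅ mappingCone φ :=
      (CategoryTheory.shiftFunctor _ (1 : ℤ)).mapIso (asIso (coconeMap (f • 𝟙 N) J) ≪≫ eqToIso e0) ≪≫
        coneOfCocone φ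
    exact noHom_of_mulCone (ht f List.mem_cons_self) (isMulCone_Q f (DRing.homCx N J))
      (((noHom_shift h1 1).of_iso (((DerivedCategory.Q).commShiftIso (1 : ℤ)).app _).symm).of_iso
        (DerivedCategory.Q.mapIso e))

theorem noHom_homCx_of_kz_right (I : Ideal A) (P : DRing.Cx A) [P.IsKProjective] :
    ∀ t : List A, (∀ f ∈ t, f ∈ I) → ∀ L : DRing.Cx A, KZ t (DerivedCategory.Q.obj L) →
      NoHom I (DerivedCategory.Q.obj (DRing.homCx P L)) := by
  intro t
  induction t with
  | nil =>
    exact fun _ L hL => noHom_of_isZero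
      (isZero_Q_of_acyclic (acyclic_homCx_of_kProj P L fun n =>
        ⟨fun a b => ((CategoryTheory.shiftFunctor (Dual.D A) n).map_isZero hL).eq_of_tgt a b⟩))
  | cons f t ih =>
    intro ht L hL
    have h1 := ih (fun g hg => ht g (List.mem_cons_of_mem f hg)) _ (hL _ (isMulCone_Q f L))
    haveI := isIso_coneMap P (f • 𝟙 L)
    have e0 : mappingCone (DRing.homCxMap P (f • 𝟙 L)) = mappingCone (f • 𝟙 (DRing.homCx P L)) := by
      simp only [homCxMap_smul_id]
    exact noHom_of_mulCone (ht f List.mem_cons_self) (isMulCone_Q f (DRing.homCx P L))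
      (h1.of_iso (DerivedCategory.Q.mapIso ((asIso (coneMap P (f • 𝟙 L))).symm ≪≫ eqToIso e0)))

variable [IsNoetherianRing A] (I : Ideal A) [DRing.HasRgammaI I]

theorem kz_of_isZero_RΓ (fs : List A) (hI : Ideal.span {x | x ∈ fs} = I) {X : Dual.D A}
    (h : IsZero ((DRing.RgammaI I).obj X)) : KZ fs X := by
  classical
  suffices key : ∀ t : List A, (∀ f ∈ t, f ∈ fs) → ∀ Y : Dual.D A, IsZero ((DRing.RgammaI I).obj Y) →
      (∀ f ∈ fs, f ∉ t → UKill f Y) → KZ t Y from key fs (fun _ h => h) X h (fun f hf hf' => (hf' hf).elim)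
  intro t
  induction t with
  | nil =>
    intro _ Y hY hk
    have hT : ∀ n, LocCoh.IsPowerTorsion I (Dual.HD A Y n) := by
      have h2 := isPowerTorsion_of_tkill (X := Y) fs.toFinset fun f hf n x => by
        obtain ⟨m, hm⟩ := hk f (List.mem_toFinset.1 hf) List.not_mem_nil n
        exact ⟨m, hm x⟩
      rwa [show (fs.toFinset : Set A) = {x | x ∈ fs} by ext; simp, hI] at h2
    haveI := isIso_ε I hT
    exact hY.of_iso (asIso ((DRing.RgammaIε I).app Y)).symm
  | cons a t ih =>
    intro ht Y hY hk C hC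
    refine ih (fun f hf => ht f (List.mem_cons_of_mem a hf)) C ?_ fun f hf hft => ?_
    · obtain ⟨g, δ, hT⟩ := hC
      exact (isZero_RΓ_cone_iff I hT).2 ⟨0, hY.eq_of_src _ _, hY.eq_of_tgt _ _⟩
    · by_cases hfa : f = a
      · exact hfa ▸ mulCone_kill hC
      · exact mulCone_ukill hC (hk f hf fun h => (List.mem_cons.1 h).elim hfa hft)

/-- contravariant `RHom` preserves objects killed by `RΓ_I` -/
theorem noHom_homCx (N : DRing.Cx A) (J : DRing.Cx A) [J.IsKInjective]
    (h : IsZero ((DRing.RgammaI I).obj (DerivedCategory.Q.obj N))) :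
    NoHom I (DerivedCategory.Q.obj (DRing.homCx N J)) := by
  obtain ⟨s, hs⟩ := IsNoetherian.noetherian I
  have hI : Ideal.span {x | x ∈ s.toList} = I := by simp only [Finset.mem_toList]; exact hs
  exact noHom_homCx_of_kz I J s.toList (fun f hf => hI ▸ Ideal.subset_span hf) N (kz_of_isZero_RΓ I _ hI h)

/-- a map inverted by `RΓ_I` induces a completion map -/
theorem bijective_precomp_preMap {P P' : DRing.Cx A} (g : P' ⟶ P) (J : DRing.Cx A) [J.IsKInjective]
    (h : IsIso ((DRing.RgammaI I).map (DerivedCategory.Q.map g))) {E : Dual.D A} (hE : DRing.IsDerivedComplete I E) :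
    Function.Bijective (fun φ : DerivedCategory.Q.obj (DRing.homCx P' J) ⟶ E =>
      DerivedCategory.Q.map (preMap g J) ≫ φ) := by
  have hT := DerivedCategory.mappingCone_triangle_distinguished g
  have h0 : IsZero ((DRing.RgammaI I).obj (DerivedCategory.Q.obj (mappingCone g))) := (isZero_RΓ_cone_iff I hT).2 h
  haveI := isIso_coconeMap g J
  refine bijective_of_noHom I (DerivedCategory.mappingCone_triangle_distinguished (preMap g J)) ?_ hE
  let e : (DRing.homCx (mappingCone g) J)⟦(1 : ℤ)⟧ ≅ mappingCone (preMap g J) :=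
    (CategoryTheory.shiftFunctor _ (1 : ℤ)).mapIso (asIso (coconeMap g J)) ≪≫
      coneOfCocone (preMap g J)
  exact ((noHom_shift (noHom_homCx I _ J h0) 1).of_iso (((DerivedCategory.Q).commShiftIso (1 : ℤ)).app _).symm).of_iso
    (DerivedCategory.Q.mapIso e)

end

end Groth.Agent.RHomMod
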